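import Cfsg.Agent.Blocks.KleinEqual.Main

/-!
# Klein four Sylow subgroup, value product `+1`: the two characters with value `-1` have equal degrees

If the degrees differ, every field automorphism fixes the principal block pointwise on elements of
odd order, so every simple module of the block has traces `0`, `1`; then both degrees are `3`.
-/

set_option autoImplicit false
set_option linter.style.haveILetI false
set_option linter.unusedSectionVars false

namespace CfsgLib.Block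

open Cfsg Finset CfsgLib.Block.Chr CfsgLib.Char CfsgLib.KleinEqual
open scoped Classical ComplexConjugate

universe u

variable {G : Type u} [Group G] [Fintype G] {M : Ideal AlgInt} [M.IsPrime]

theorem exists_frobenius_exponent (n : ℕ) (hn : n ≠ 0) :
    ∃ k : ℕ, k.Coprime n ∧ k % 2 = 1 ∧ ∀ m : ℕ, m ∣ n → Odd m → k ≡ 2 [MOD m] := by
  obtain ⟨v, m₀, hm₀, he⟩ := Nat.exists_eq_two_pow_mul_odd hn
  have hco : (2 ^ (v + 1)).Coprime m₀ := (Nat.coprime_two_left.2 hm₀).pow_left _
  obtain ⟨k, hk1, hk2⟩ := Nat.chineseRemainder hco 1 2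
  refine ⟨k, ?_, ?_, fun m hm ho => ?_⟩
  · rw [he]
    refine Nat.Coprime.mul_right ?_ ?_
    · refine (Nat.coprime_two_right.2 ?_).pow_right v
      have := hk1.of_dvd (dvd_pow_self 2 v.succ_ne_zero)
      exact Nat.odd_iff.2 this
    · show k.gcd m₀ = 1
      rw [hk2.gcd_eq]
      exact Nat.coprime_two_left.2 hm₀
  · exact hk1.of_dvd (dvd_pow_self 2 v.succ_ne_zero)
  · refine hk2.of_dvd ?_
    rw [he] at hm
    exact ((Nat.coprime_two_right.2 ho).pow_right v).dvd_of_dvd_mul_left hm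

/-- **Equal degrees in the case of value product `+1`.** -/
theorem klein_equal_degree (hM : IsPModular 2 M) (P : Sylow 2 G) (hcard : Nat.card P = 4)
    (hexp : ∀ x : P, x * x = 1) (hone : ∀ s t : G, orderOf s = 2 → orderOf t = 2 → IsConj s t)
    {J : G} (hJP : J ∈ (P : Subgroup G)) (hJ : orderOf J = 2) {χ₁ χ₂ χ₃ : IrrCharacter G}
    (hB : ∀ χ, χ ∈ principalBlock M G ↔ χ = oneIrr G ∨ χ = χ₁ ∨ χ = χ₂ ∨ χ = χ₃)
    (hd : oneIrr G ≠ χ₁ ∧ oneIrr G ≠ χ₂ ∧ oneIrr G ≠ χ₃ ∧ χ₁ ≠ χ₂ ∧ χ₁ ≠ χ₃ ∧ χ₂ ≠ χ₃)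
    (h1 : (χ₁ : G → ℂ) J = 1) (h2 : (χ₂ : G → ℂ) J = -1) (h3 : (χ₃ : G → ℂ) J = -1) :
    charDegree (χ₂ : G → ℂ) = charDegree (χ₃ : G → ℂ) := by
  letI := irrFintype (G := G)
  haveI : Fact (Nat.Prime 2) := ⟨Nat.prime_two⟩
  haveI := charP_residue hM
  by_contra hne
  obtain ⟨b, n, U, L⟩ := exists_loc P hcard hexp hone hJP hJ
  obtain ⟨k, hkn, hk2, hkm⟩ := exists_frobenius_exponent (Nat.card G) Nat.card_pos.ne'
  -- a permutation of the block keeping the values at `J` and the degrees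
  have hfix : ∀ T : IrrCharacter G → IrrCharacter G,
      (∀ χ, χ ∈ principalBlock M G → T χ ∈ principalBlock M G) →
      (∀ χ : IrrCharacter G, (T χ : G → ℂ) J = (χ : G → ℂ) J ∨
        (T χ : G → ℂ) J = conj ((χ : G → ℂ) J)) →
      (∀ χ : IrrCharacter G, charDegree (T χ : G → ℂ) = charDegree (χ : G → ℂ)) →
      (∀ χ : IrrCharacter G, T χ = oneIrr G → χ = oneIrr G) →
      T χ₁ = χ₁ ∧ T χ₂ = χ₂ ∧ T χ₃ = χ₃ := by
    intro T hT hJv hdeg hT1
    have hv : ∀ χ : IrrCharacter G, ((χ : G → ℂ) J = 1 → (T χ : G → ℂ) J = 1) ∧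
        ((χ : G → ℂ) J = -1 → (T χ : G → ℂ) J = -1) := fun χ =>
      ⟨fun h => by rcases hJv χ with e | e <;> simp [e, h],
        fun h => by rcases hJv χ with e | e <;> simp [e, h]⟩
    refine ⟨?_, ?_, ?_⟩
    · rcases (hB _).1 (hT χ₁ ((hB _).2 (Or.inr (Or.inl rfl)))) with h | h | h | h
      · exact absurd (hT1 _ h) (Ne.symm hd.1)
      · exact h
      · have := (hv χ₁).1 h1; rw [h, h2] at this; norm_num at this
      · have := (hv χ₁).1 h1; rw [h, h3] at this; norm_num at this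
    · rcases (hB _).1 (hT χ₂ ((hB _).2 (Or.inr (Or.inr (Or.inl rfl))))) with h | h | h | h
      · exact absurd (hT1 _ h) (Ne.symm hd.2.1)
      · have := (hv χ₂).2 h2; rw [h, h1] at this; norm_num at this
      · exact h
      · exact absurd ((hdeg χ₂).symm.trans (by rw [h])) hne
    · rcases (hB _).1 (hT χ₃ ((hB _).2 (Or.inr (Or.inr (Or.inr rfl))))) with h | h | h | h
      · exact absurd (hT1 _ h) (Ne.symm hd.2.2.1)
      · have := (hv χ₃).2 h3; rw [h, h1] at this; norm_num at this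
      · exact absurd (by rw [← h, hdeg χ₃]) hne
      · exact h
  have hbar := hfix barIrr (fun χ h => barIrr_mem_principalBlock h) (fun χ => Or.inr rfl)
    (fun χ => by simp only [charDegree, barIrr_coe, Complex.conj_re]) fun χ h => by
      refine Subtype.ext (funext fun g => ?_)
      have := congrArg conj (congrFun (congrArg Subtype.val h) g)
      rw [barIrr_coe, Complex.conj_conj, oneIrr_coe, map_one] at this
      rw [this, oneIrr_coe]
  have htw := hfix (GaloisParity.twist hkn)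
    (fun χ h => (GaloisParity.twist_mem_principal hM hkn χ).2 h)
    (fun χ => Or.inl (by
      rw [GaloisParity.twist_apply, ← pow_mod_orderOf, hJ, hk2, pow_one]))
    (GaloisParity.twist_deg hkn) fun χ h => by
      refine Subtype.ext (funext fun g => ?_)
      have := congrFun (congrArg Subtype.val h) ((powCoprime (G := G) hkn.symm).symm g)
      rw [GaloisParity.twist_apply, show ((powCoprime (G := G) hkn.symm).symm g) ^ k = g from
        (powCoprime (G := G) hkn.symm).apply_symm_apply g, oneIrr_coe] at this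
      rw [this, oneIrr_coe]
  have hall : ∀ ψ ∈ principalBlock M G, ∀ s : G, ¬ 2 ∣ orderOf s →
      (ψ : G → ℂ) (s * s) = (ψ : G → ℂ) s ∧ (ψ : G → ℂ) s⁻¹ = (ψ : G → ℂ) s := by
    intro ψ hψ s hs
    have hks : s ^ k = s * s := by
      rw [← pow_two, pow_eq_pow_iff_modEq]
      exact hkm _ (orderOf_dvd_natCard s) (Nat.odd_iff.2 (Nat.two_dvd_ne_zero.1 hs))
    have aux : ∀ χ : IrrCharacter G, GaloisParity.twist hkn χ = χ → barIrr χ = χ →
        (χ : G → ℂ) (s * s) = (χ : G → ℂ) s ∧ (χ : G → ℂ) s⁻¹ = (χ : G → ℂ) s := by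
      intro χ ht hb
      constructor
      · have := congrFun (congrArg Subtype.val ht) s
        rw [GaloisParity.twist_apply, hks] at this
        exact this
      · rw [← conj_irr, ← barIrr_coe, hb]
    rcases (hB ψ).1 hψ with rfl | rfl | rfl | rfl
    · exact ⟨rfl, rfl⟩
    exacts [aux _ htw.1 hbar.1, aux _ htw.2.1 hbar.2.1, aux _ htw.2.2 hbar.2.2]
  obtain ⟨-, v, -, hv, -⟩ := klein_singular hM P hcard hexp hone
  have hthree : ∀ χ : IrrCharacter G, χ ∈ principalBlock M G → χ ≠ oneIrr G → barIrr χ = χ →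
      (χ : G → ℂ) J = -1 → charDegree (χ : G → ℂ) = 3 := by
    intro χ hχ hne1 hb hJ1
    have hsing : ∀ g : G, 2 ∣ orderOf g → (χ : G → ℂ) g = -1 := fun g hg => by
      rw [(hv χ hχ).2 g hg, ← (hv χ hχ).2 J (by rw [hJ]), hJ1]
    have hν : (Nat.card G : ℂ)⁻¹ * ∑ g : G, (χ : G → ℂ) (g * g) = 1 := by
      rcases IsIrrCharacter.fs_indicator χ.2 with ⟨⟨g, hg⟩, -⟩ | ⟨-, h | ⟨-, h⟩⟩
      · exact absurd (Complex.conj_eq_iff_im.1 (congrFun (congrArg Subtype.val hb) g)) hg
      · exact h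
      · exfalso
        obtain ⟨-, w, -, hw, -⟩ := klein_principal hM P hcard hexp hone
        obtain ⟨-, hpm, hdiv⟩ := hw χ hχ
        obtain ⟨c, hc⟩ := hdiv
        obtain ⟨d, hd'⟩ := h _ (irr_one χ).1
        omega
    exact degree_eq_three hM L hχ (L.mult_three hone P hcard hexp hsing hne1 hν) hall
  exact hne ((hthree χ₂ ((hB _).2 (Or.inr (Or.inr (Or.inl rfl)))) (Ne.symm hd.2.1) hbar.2.1 h2).trans
    (hthree χ₃ ((hB _).2 (Or.inr (Or.inr (Or.inr rfl)))) (Ne.symm hd.2.2.1) hbar.2.2 h3).symm)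

end CfsgLib.Block
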