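import Mathlib

/-!
# A self-dual module with all traces in the prime field, and a four group

A module in characteristic two with an invariant alternating form, scalar endomorphisms, no fixed
vector and all traces `0` or `1` cannot have a two-dimensional space of fixed points of the odd part
`U` of the centraliser `U V` of an involution, when the involutions of the four group `V` are fused.
-/

set_option autoImplicit false
set_option linter.style.haveILetI false
set_option linter.unusedSectionVars false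

namespace CfsgLib.KleinEqual

open Finset Module
open scoped Classical

universe u v w

variable {k : Type v} [Field k] [CharP k 2] {S : Type w} [AddCommGroup S] [Module k S]
  [FiniteDimensional k S] {G : Type u} [Group G] [Fintype G]

theorem add_self' {M : Type*} [AddCommGroup M] [Module k M] (x : M) : x + x = 0 := by
  rw [← two_smul k x, CharTwo.two_eq_zero, zero_smul]

/-- A sum invariant under an involution is the sum over its fixed points. -/
theorem sum_fixed {X : Type*} [Fintype X] [DecidableEq X] {M : Type*} [AddCommGroup M] [Module k M] (σ : X → X)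
    (hσ : ∀ x, σ (σ x) = x) (F : X → M) (hF : ∀ x, F (σ x) = F x) (s : Finset X)
    (hs : ∀ x ∈ s, σ x ∈ s) :
    ∑ x ∈ s, F x = ∑ x ∈ s.filter (fun x => σ x = x), F x := by
  rw [← sum_filter_add_sum_filter_not s (fun x => σ x = x)]
  conv_rhs => rw [← add_zero (∑ x ∈ s.filter (fun x => σ x = x), F x)]
  congr 1
  refine sum_involution (fun x _ => σ x) (fun x _ => by rw [hF]; exact add_self' (k := k) _)
    (fun x hx _ => (mem_filter.1 hx).2) (fun x hx => ?_) (fun x _ => hσ x)
  exact mem_filter.2 ⟨hs x (mem_filter.1 hx).1, fun h => (mem_filter.1 hx).2 (by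
    rw [hσ] at h; exact h.symm)⟩

/-- Trace nondegeneracy. -/
theorem eq_zero_of_trace (N : End k S) (h : ∀ f : End k S, LinearMap.trace k S (N * f) = 0) :
    N = 0 := by
  refine LinearMap.ext fun x => ?_
  rw [LinearMap.zero_apply, ← Module.forall_dual_apply_eq_zero_iff k]
  intro ψ
  have h1 := h (ψ.smulRight x)
  have e : N * ψ.smulRight x = ψ.smulRight (N x) := LinearMap.ext fun y => by simp
  rwa [e, LinearMap.trace_smulRight] at h1

/-- The data: a representation with an alternating invariant form and the fixed point projection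
of a subgroup of odd order normalised by two commuting involutions `a`, `b`. -/
structure Setup (k : Type v) [Field k] (S : Type w) [AddCommGroup S] [Module k S] (G : Type u)
    [Group G] [Fintype G] where
  ρ : G →* End k S
  β : S →ₗ[k] S →ₗ[k] k
  alt : ∀ x, β x x = 0
  nd : ∀ x, (∀ y, β x y = 0) → x = 0
  inv : ∀ g x y, β (ρ g x) (ρ g y) = β x y
  schur : ∀ f : End k S, (∀ g, f * ρ g = ρ g * f) → ∃ c : k, f = c • 1
  fix : ∀ x, (∀ g, ρ g x = x) → x = 0
  span : ∀ f : End k S, ∃ c : G → k, f = ∑ g, c g • ρ g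
  tr : ∀ g, LinearMap.trace k S (ρ g) = 0 ∨ LinearMap.trace k S (ρ g) = 1
  a : G
  U : Subgroup G
  hU : Odd (Nat.card U)
  ha : a * a = 1
  hUa : ∀ u ∈ U, Commute u a

namespace Setup

variable (d : Setup k S G)

/-- The projection onto the fixed points of `U`. -/
noncomputable def P : End k S := ∑ u : d.U, d.ρ u

theorem ρ_mul (g h : G) (x : S) : d.ρ g (d.ρ h x) = d.ρ (g * h) x := by
  rw [map_mul]; rfl

theorem ρ_inv_apply (g : G) (x : S) : d.ρ g (d.ρ g⁻¹ x) = x := by
  rw [ρ_mul, mul_inv_cancel, map_one]; rfl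

theorem adj (g : G) (x y : S) : d.β (d.ρ g x) y = d.β x (d.ρ g⁻¹ y) := by
  conv_lhs => rw [← d.ρ_inv_apply g y]
  rw [d.inv]

theorem symm (x y : S) : d.β x y = d.β y x := by
  have h := d.alt (x + y)
  simp only [map_add, LinearMap.add_apply, d.alt, zero_add, add_zero] at h
  exact (CharTwo.add_eq_zero.1 h).symm

theorem card_U : (Nat.card d.U : k) = 1 := by
  obtain ⟨j, hj⟩ := d.hU
  rw [hj]
  push_cast
  rw [CharTwo.two_eq_zero, zero_mul, zero_add]

theorem ρ_P {u : G} (hu : u ∈ d.U) : d.ρ u * d.P = d.P := by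
  rw [P, mul_sum]
  exact Fintype.sum_equiv (Equiv.mulLeft (⟨u, hu⟩ : d.U)) _ _ fun w => by
    rw [← map_mul]; rfl

theorem P_ρ {u : G} (hu : u ∈ d.U) : d.P * d.ρ u = d.P := by
  rw [P, sum_mul]
  exact Fintype.sum_equiv (Equiv.mulRight (⟨u, hu⟩ : d.U)) _ _ fun w => by
    rw [← map_mul]; rfl

theorem P_P : d.P * d.P = d.P := by
  conv_lhs => arg 1; rw [P]
  rw [sum_mul, sum_congr rfl fun u _ => d.ρ_P u.2, sum_const, card_univ, ← Nat.cast_smul_eq_nsmul k,
    ← Nat.card_eq_fintype_card, d.card_U, one_smul]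

theorem P_apply_P (x : S) : d.P (d.P x) = d.P x := LinearMap.congr_fun d.P_P x

theorem P_adj (x y : S) : d.β (d.P x) y = d.β x (d.P y) := by
  simp only [P, LinearMap.sum_apply, map_sum]
  exact Fintype.sum_equiv (Equiv.inv d.U) _ _ fun u => by
    rw [d.adj]; rfl

/-- The quadratic form attached to an involution. -/
noncomputable def ell (v : G) (x : S) : k := d.β (d.ρ v x) x

theorem ell_add {v : G} (hv : v * v = 1) (x y : S) :
    d.ell v (x + y) = d.ell v x + d.ell v y := by
  have h : d.β (d.ρ v x) y = d.β (d.ρ v y) x := by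
    rw [d.adj, inv_eq_of_mul_eq_one_right hv, d.symm]
  simp only [ell, map_add, LinearMap.add_apply, h]
  linear_combination CharTwo.add_self_eq_zero (d.β (d.ρ v y) x)

theorem ell_conj {v g : G} (x : S) : d.ell (g * v * g⁻¹) x = d.ell v (d.ρ g⁻¹ x) := by
  rw [ell, ell, ← d.ρ_mul, ← d.ρ_mul, d.adj]

theorem ell_P (x : S) : d.ell d.a (d.P x) = d.ell d.a x := by
  let L : S →+ k := ⟨⟨d.ell d.a, by simp [ell]⟩, d.ell_add d.ha⟩
  show L (d.P x) = L x
  have h : ∀ u : d.U, L (d.ρ u x) = L x := fun u => by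
    show d.β (d.ρ d.a (d.ρ u x)) (d.ρ u x) = d.β (d.ρ d.a x) x
    rw [d.ρ_mul, ← (d.hUa u u.2).eq, ← d.ρ_mul, d.inv]
  simp only [P, LinearMap.sum_apply, map_sum, h, sum_const, card_univ, nsmul_eq_mul,
    ← Nat.card_eq_fintype_card, d.card_U, one_mul]

/-- An involution acting nontrivially on the two-dimensional fixed point space. -/
theorem exists_flag {v : G} (hv : v * v = 1) (hvP : d.ρ v * d.P = d.P * d.ρ v)
    (h2 : finrank k (LinearMap.range d.P) = 2) (hne : d.ρ v * d.P ≠ d.P) :
    ∃ f e : S, d.P f = f ∧ d.P e = e ∧ d.ρ v f = f + e ∧ d.ρ v e = e ∧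
      d.β e f ≠ 0 ∧ ∀ y, d.P y = y → ∃ α γ : k, y = α • f + γ • e := by
  obtain ⟨x, hx⟩ : ∃ x, d.ρ v (d.P x) ≠ d.P x := by
    by_contra h
    push Not at h
    exact hne (LinearMap.ext h)
  set f := d.P x with hf
  have hPf : d.P f = f := d.P_apply_P x
  set e := d.ρ v f + f with he
  have hPv : ∀ y, d.P y = y → d.P (d.ρ v y) = d.ρ v y := fun y hy => by
    have := LinearMap.congr_fun hvP y
    simp only [Module.End.mul_apply] at this
    rw [← this, hy]
  have hPe : d.P e = e := by rw [he, map_add, hPv f hPf, hPf]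
  have hvf : d.ρ v f = f + e := by rw [he, add_left_comm, add_self' (k := k), add_zero]
  have hve : d.ρ v e = e := by
    rw [he, map_add, d.ρ_mul, hv, map_one, Module.End.one_apply, add_comm]
  have he0 : e ≠ 0 := fun h => hx (by rw [hvf, h, add_zero])
  have hli : LinearIndependent k ![f, e] := by
    rw [LinearIndependent.pair_iff]
    intro s t hst
    have h1 : s • (f + e) + t • e = 0 := by
      have := congrArg (d.ρ v) hst
      rwa [map_add, map_smul, map_smul, hvf, hve, map_zero] at this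
    have h2 : s • e = 0 := by
      rw [smul_add, add_right_comm, hst, zero_add] at h1
      exact h1
    have hs : s = 0 := (smul_eq_zero.1 h2).resolve_right he0
    rw [hs, zero_smul, zero_add] at hst
    exact ⟨hs, (smul_eq_zero.1 hst).resolve_right he0⟩
  have hspan : ∀ y, d.P y = y → ∃ α γ : k, y = α • f + γ • e := by
    intro y hy
    have hle : Submodule.span k ({f, e} : Set S) ≤ LinearMap.range d.P :=
      Submodule.span_le.2 (by
        rintro z (rfl | rfl)
        exacts [⟨f, hPf⟩, ⟨e, hPe⟩])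
    have heq := Submodule.eq_of_le_of_finrank_le hle (by
      rw [h2]
      have := finrank_span_eq_card hli
      rw [Matrix.range_cons_cons_empty] at this
      rw [this, Fintype.card_fin])
    have hy' : y ∈ Submodule.span k ({f, e} : Set S) := by rw [heq]; exact ⟨y, hy⟩
    obtain ⟨α, γ, h⟩ := Submodule.mem_span_pair.1 hy'
    exact ⟨α, γ, h.symm⟩
  refine ⟨f, e, hPf, hPe, hvf, hve, fun h0 => he0 (d.nd e fun y => ?_), hspan⟩
  obtain ⟨α, γ, hy⟩ := hspan (d.P y) (d.P_apply_P y)
  rw [← hPe, d.P_adj, hy, map_add, map_smul, map_smul, h0, d.alt, smul_zero, smul_zero, add_zero]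

/-- `V` cannot act trivially on the fixed points of `U`. -/
theorem not_trivial {b n : G} (hX : d.P ≠ 0)
    (hH : ∀ h : G, Commute h d.a → d.ρ h * d.P = d.P ∧ d.P * d.ρ h = d.P)
    (hb : b * b = 1) (hab : Commute d.a b)
    (hna : n * d.a * n⁻¹ = b) (hnc : n * (d.a * b) * n⁻¹ = d.a) (hne : d.a ≠ b) (hb1 : b ≠ 1)
    (hfix : ∀ g : G, Commute (g⁻¹ * d.a * g) d.a → Commute (g⁻¹ * b * g) d.a →
      Commute g d.a ∨ Commute (n⁻¹ * g) d.a ∨ Commute (n * g) d.a) : False := by
  set H := Subgroup.centralizer ({d.a} : Set G) with hHdef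
  have hmem : ∀ {g : G}, g ∈ H ↔ Commute g d.a := fun {g} => by
    rw [hHdef, Subgroup.mem_centralizer_singleton_iff]; rfl
  have hba : b * d.a = d.a * b := hab.eq.symm
  -- the fixed points of `V` on the cosets
  have hfixed : univ.filter (fun q : G ⧸ H => d.a • q = q ∧ b • q = q) =
      {QuotientGroup.mk 1, QuotientGroup.mk n, QuotientGroup.mk n⁻¹} := by
    ext q
    obtain ⟨g, rfl⟩ := QuotientGroup.mk_surjective q
    have key : ∀ x : G, x • (QuotientGroup.mk g : G ⧸ H) = QuotientGroup.mk g ↔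
        Commute (g⁻¹ * x⁻¹ * g) d.a := fun x => by
      rw [MulAction.Quotient.smul_mk, QuotientGroup.eq, smul_eq_mul, hmem, mul_inv_rev, mul_assoc]
    simp only [mem_filter, mem_univ, true_and, mem_insert, mem_singleton, key,
      QuotientGroup.eq, hmem, inv_inv, mul_one, inv_eq_of_mul_eq_one_right d.ha,
      inv_eq_of_mul_eq_one_right hb]
    constructor
    · rintro ⟨h1, h2⟩
      rcases hfix g h1 h2 with h | h | h
      · exact Or.inl h.inv_left
      · refine Or.inr (Or.inl ?_)
        have := h.inv_left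
        rwa [mul_inv_rev, inv_inv] at this
      · refine Or.inr (Or.inr ?_)
        have := h.inv_left
        rwa [mul_inv_rev] at this
    · have hcomm : ∀ x : G, Commute x d.a → (x = 1 ∨ x = d.a ∨ x = b ∨ x = d.a * b) →
          True := fun _ _ _ => trivial
      have conj : ∀ {x : G}, Commute (g⁻¹ * x) d.a → ∀ y, Commute (x⁻¹ * y * x) d.a →
          Commute (g⁻¹ * y * g) d.a := fun {x} h y hy => by
        have := (h.mul_left hy).mul_left h.inv_left
        rwa [show g⁻¹ * x * (x⁻¹ * y * x) * (g⁻¹ * x)⁻¹ = g⁻¹ * y * g by group] at this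
      have ca : Commute d.a d.a := Commute.refl _
      have cb : Commute b d.a := hab.symm
      have cc : Commute (d.a * b) d.a := ca.mul_left cb
      have e1 : n⁻¹ * d.a * n = d.a * b := by
        conv_lhs => rw [← hnc]
        group
      have e2 : n⁻¹ * b * n = d.a := by rw [← hna]; group
      have e3 : n * b * n⁻¹ = d.a * b := by
        have : n * (d.a * b) * n⁻¹ = n * d.a * n⁻¹ * (n * b * n⁻¹) := by group
        rw [hnc, hna] at this
        have hh := congrArg (b * ·) this
        simp only [← mul_assoc, hb, one_mul] at hh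
        rw [← hh, hba]
      rintro (h | h | h)
      · refine ⟨conj (x := 1) (by rwa [mul_one]) _ ?_, conj (x := 1) (by rwa [mul_one]) _ ?_⟩
        · simpa using ca
        · simpa using cb
      · exact ⟨conj h _ (by rw [e1]; exact cc), conj h _ (by rw [e2])⟩
      · exact ⟨conj h _ (by rw [inv_inv, hna]; exact cb), conj h _ (by rw [inv_inv, e3]; exact cc)⟩
  have hn1 : ¬ Commute n d.a := fun h => hne (by rw [← hna, h.eq, mul_inv_cancel_right])
  have hd3 : (QuotientGroup.mk 1 : G ⧸ H) ∉
        ({QuotientGroup.mk n, QuotientGroup.mk n⁻¹} : Finset (G ⧸ H)) ∧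
      (QuotientGroup.mk n : G ⧸ H) ∉ ({QuotientGroup.mk n⁻¹} : Finset (G ⧸ H)) := by
    simp only [mem_insert, mem_singleton, QuotientGroup.eq, hmem, inv_one, one_mul, not_or]
    refine ⟨⟨hn1, fun h => hn1 (by simpa using h.inv_left)⟩, fun h => hb1 ?_⟩
    have h' : n⁻¹ * n⁻¹ * d.a * (n⁻¹ * n⁻¹)⁻¹ = d.a := by rw [h.eq, mul_inv_cancel_right]
    have e1 : n⁻¹ * d.a * n = d.a * b := by
      conv_lhs => rw [← hnc]
      group
    have e4 : n⁻¹ * n⁻¹ * d.a * (n⁻¹ * n⁻¹)⁻¹ = n⁻¹ * (d.a * b) * n := by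
      rw [← e1]; simp [mul_assoc]
    have e2 : n⁻¹ * b * n = d.a := by rw [← hna]; group
    have e5 : n⁻¹ * (d.a * b) * n = n⁻¹ * d.a * n * (n⁻¹ * b * n) := by group
    rw [e4, e5, e1, e2, mul_assoc, hba, ← mul_assoc, d.ha, one_mul] at h'
    exact absurd h'.symm hne
  -- invariant sums over the cosets
  have hsum : ∀ {M : Type _} [AddCommGroup M] [Module k M] (φ : G → M),
      (∀ g h, Commute h d.a → φ (g * h) = φ g) → (∀ g, φ (d.a * g) = φ g) →
      (∀ g, φ (b * g) = φ g) →
      ∑ q : G ⧸ H, φ q.out = φ 1 + (φ n + φ n⁻¹) := by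
    intro M _ _ φ hr hla hlb
    have hout : ∀ g : G, φ (QuotientGroup.mk g : G ⧸ H).out = φ g := fun g => by
      obtain ⟨h, hh⟩ := QuotientGroup.mk_out_eq_mul H g
      rw [hh, hr g h (hmem.1 h.2)]
    have hinv : ∀ (x : G), (∀ g, φ (x * g) = φ g) → ∀ q : G ⧸ H, φ (x • q).out = φ q.out := by
      intro x hx q
      obtain ⟨g, rfl⟩ := QuotientGroup.mk_surjective q
      rw [MulAction.Quotient.smul_mk, hout, hout, smul_eq_mul, hx]
    rw [sum_fixed (k := k) (fun q : G ⧸ H => d.a • q)
        (fun q => by rw [smul_smul, d.ha, one_smul]) _ (hinv d.a hla) univ (fun q _ => mem_univ _),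
      sum_fixed (k := k) (fun q : G ⧸ H => b • q) (fun q => by rw [smul_smul, hb, one_smul]) _
        (hinv b hlb) _ (fun q hq => mem_filter.2 ⟨mem_univ _, by
          rw [smul_smul, hab.eq, ← smul_smul, (mem_filter.1 hq).2]⟩),
      filter_filter, hfixed, sum_insert hd3.1, sum_insert hd3.2, sum_singleton, hout, hout, hout]
  have hPa : d.P * d.ρ d.a = d.P := (hH _ (Commute.refl _)).2
  have hPb : d.P * d.ρ b = d.P := (hH _ hab.symm).2
  set A := d.P * d.ρ n * d.P with hA
  set B := d.P * d.ρ n⁻¹ * d.P with hB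
  -- the vector identity
  have hvec : d.P + (A + B) = 0 := by
    refine LinearMap.ext fun x => ?_
    let φ : G → S := fun g => d.ρ g (d.P x)
    have hr : ∀ g h, Commute h d.a → φ (g * h) = φ g := fun g h hh => by
      show d.ρ (g * h) (d.P x) = d.ρ g (d.P x)
      rw [← d.ρ_mul]
      exact congrArg _ (LinearMap.congr_fun (hH h hh).1 x)
    have hout : ∀ g : G, φ (QuotientGroup.mk g : G ⧸ H).out = φ g := fun g => by
      obtain ⟨h, hh⟩ := QuotientGroup.mk_out_eq_mul H g
      rw [hh, hr g h (hmem.1 h.2)]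
    have h0 : ∑ q : G ⧸ H, φ q.out = 0 := d.fix _ fun g => by
      rw [map_sum]
      refine Fintype.sum_equiv (MulAction.toPerm g) _ _ fun q => ?_
      obtain ⟨w, rfl⟩ := QuotientGroup.mk_surjective q
      rw [hout, MulAction.toPerm_apply, MulAction.Quotient.smul_mk, hout, smul_eq_mul]
      exact d.ρ_mul g w _
    have h1 := congrArg d.P h0
    rw [map_sum, map_zero, hsum (fun g => d.P (φ g)) (fun g h hh => by rw [hr g h hh])
      (fun g => by
        show d.P (d.ρ (d.a * g) (d.P x)) = _
        rw [← d.ρ_mul]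
        exact LinearMap.congr_fun hPa _)
      (fun g => by
        show d.P (d.ρ (b * g) (d.P x)) = _
        rw [← d.ρ_mul]
        exact LinearMap.congr_fun hPb _)] at h1
    simp only [φ, map_one, Module.End.one_apply, d.P_apply_P] at h1
    exact h1
  have hB' : B = d.P + A := by
    calc B = d.P + (A + B) + (d.P + A) := by
          rw [show d.P + (A + B) + (d.P + A) = (d.P + d.P) + (A + A) + B by abel,
            add_self' (k := k), add_self' (k := k), zero_add, zero_add]
      _ = _ := by rw [hvec, zero_add]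
  have hPA : d.P * A = A := by rw [hA, ← mul_assoc, ← mul_assoc, d.P_P]
  have hAP : A * d.P = A := by rw [hA, mul_assoc, d.P_P]
  -- the endomorphism identity
  have hinvH : ∀ h : G, Commute h d.a → d.ρ h * A * d.ρ h⁻¹ = A := fun h hh => by
    calc d.ρ h * A * d.ρ h⁻¹ = d.ρ h * d.P * d.ρ n * (d.P * d.ρ h⁻¹) := by
          simp only [hA, mul_assoc]
      _ = A := by rw [(hH h hh).1, (hH _ hh.inv_left).2]
  let ψ : G → End k S := fun g => d.ρ g * A * d.ρ g⁻¹
  have hψr : ∀ g h, Commute h d.a → ψ (g * h) = ψ g := fun g h hh => by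
    show d.ρ (g * h) * A * d.ρ (g * h)⁻¹ = d.ρ g * A * d.ρ g⁻¹
    rw [mul_inv_rev, map_mul, map_mul,
      show d.ρ g * d.ρ h * A * (d.ρ h⁻¹ * d.ρ g⁻¹) = d.ρ g * (d.ρ h * A * d.ρ h⁻¹) * d.ρ g⁻¹ by
        simp only [mul_assoc], hinvH h hh]
  have hψout : ∀ g : G, ψ (QuotientGroup.mk g : G ⧸ H).out = ψ g := fun g => by
    obtain ⟨h, hh⟩ := QuotientGroup.mk_out_eq_mul H g
    rw [hh, hψr g h (hmem.1 h.2)]
  have hψl : ∀ x g : G, ψ (x * g) = d.ρ x * ψ g * d.ρ x⁻¹ := fun x g => by
    show d.ρ (x * g) * A * d.ρ (x * g)⁻¹ = d.ρ x * (d.ρ g * A * d.ρ g⁻¹) * d.ρ x⁻¹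
    rw [mul_inv_rev, map_mul, map_mul]
    simp only [mul_assoc]
  obtain ⟨c, hc⟩ := d.schur (∑ q : G ⧸ H, ψ q.out) fun g => by
    have h : d.ρ g * (∑ q : G ⧸ H, ψ q.out) * d.ρ g⁻¹ = ∑ q : G ⧸ H, ψ q.out := by
      rw [mul_sum, sum_mul]
      refine Fintype.sum_equiv (MulAction.toPerm g) _ _ fun q => ?_
      obtain ⟨w, rfl⟩ := QuotientGroup.mk_surjective q
      rw [hψout, MulAction.toPerm_apply, MulAction.Quotient.smul_mk, hψout, smul_eq_mul, hψl]
    conv_lhs => rw [← h]
    rw [mul_assoc, ← map_mul, inv_mul_cancel, map_one, mul_one]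
  have hPv : ∀ v : G, Commute v d.a → ∀ F : End k S,
      d.P * (d.ρ v * F * d.ρ v⁻¹) * d.P = d.P * F * d.P := fun v hv F => by
    calc d.P * (d.ρ v * F * d.ρ v⁻¹) * d.P = d.P * d.ρ v * F * (d.ρ v⁻¹ * d.P) := by
          simp only [mul_assoc]
      _ = _ := by rw [(hH v hv).2, (hH _ hv.inv_left).1]
  have hend : A = c • d.P := by
    have h1 := congrArg (fun F => d.P * F * d.P) hc
    simp only [mul_sum, sum_mul] at h1
    rw [hsum (fun g => d.P * ψ g * d.P) (fun g h hh => by rw [hψr g h hh])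
      (fun g => by rw [hψl]; exact hPv _ (Commute.refl _) _)
      (fun g => by rw [hψl]; exact hPv _ hab.symm _)] at h1
    have t1 : d.P * ψ 1 * d.P = A := by
      simp only [ψ, inv_one, map_one, one_mul, mul_one]
      rw [hPA, hAP]
    have t2 : d.P * ψ n * d.P = A * A * B := by
      calc d.P * ψ n * d.P = d.P * d.ρ n * A * (d.ρ n⁻¹ * d.P) := by simp only [ψ, mul_assoc]
        _ = d.P * d.ρ n * (d.P * A * d.P) * (d.ρ n⁻¹ * d.P) := by rw [hPA, hAP]
        _ = A * A * B := by simp only [hA, hB, mul_assoc]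
    have t3 : d.P * ψ n⁻¹ * d.P = B * A * A := by
      calc d.P * ψ n⁻¹ * d.P = d.P * d.ρ n⁻¹ * A * (d.ρ n * d.P) := by
            simp only [ψ, mul_assoc, inv_inv]
        _ = d.P * d.ρ n⁻¹ * (d.P * A * d.P) * (d.ρ n * d.P) := by rw [hPA, hAP]
        _ = B * A * A := by simp only [hA, hB, mul_assoc]
    rw [t1, t2, t3, mul_smul_comm, smul_mul_assoc, mul_one, d.P_P] at h1
    have h4 : A * A * B = A * A + A * A * A := by rw [hB', mul_add, mul_assoc A A d.P, hAP]
    have h5 : B * A * A = A * A + A * A * A := by rw [hB', add_mul, add_mul, hPA]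
    rw [h4, h5, add_self' (k := k), add_zero] at h1
    exact h1
  refine hX (LinearMap.ext fun x => d.nd _ fun y => ?_)
  have hadj : d.β (A x) y = d.β x (B y) := by
    simp only [hA, hB, Module.End.mul_apply]
    rw [d.P_adj, d.adj, d.P_adj]
  rw [hB', hend, LinearMap.add_apply, LinearMap.smul_apply, LinearMap.smul_apply, map_add,
    map_smul, map_smul, LinearMap.smul_apply, ← d.P_adj] at hadj
  simpa using hadj

/-- The Gram computation: `b` trivial and `a` nontrivial on the fixed points of `U`. -/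
theorem not_flag {b n : G} (haP : d.ρ d.a * d.P = d.P * d.ρ d.a)
    (h2 : finrank k (LinearMap.range d.P) = 2) (hne : d.ρ d.a * d.P ≠ d.P)
    (hbP : d.ρ b * d.P = d.P) (hna : n * d.a * n⁻¹ = b) (hnc : n * (d.a * b) * n⁻¹ = d.a) :
    False := by
  obtain ⟨f, e, hPf, hPe, haf, hae, hl, hspan⟩ := d.exists_flag d.ha haP h2 hne
  set l := d.β e f with hldef
  -- the linear shape of the quadratic form
  have hell : ∀ z, l * d.ell d.a z = d.β z e * d.β z e := by
    intro z
    obtain ⟨α, γ, hy⟩ := hspan (d.P z) (d.P_apply_P z)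
    have h1 : d.β z e = α * l := by
      rw [show d.β z e = d.β (d.P z) e by rw [d.P_adj, hPe], hy]
      simp only [map_add, map_smul, LinearMap.add_apply, LinearMap.smul_apply, d.alt,
        smul_eq_mul, mul_zero, add_zero]
      rw [d.symm f e]
    rw [← d.ell_P, hy, h1]
    simp only [ell, map_add, map_smul, haf, hae, LinearMap.add_apply, LinearMap.smul_apply,
      smul_eq_mul, d.alt, d.symm f e]
    linear_combination (α * γ * l * l) * CharTwo.two_eq_zero (R := k)
  set f' := d.ρ n f with hf'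
  set e' := d.ρ n e with he'
  have hbf : d.ρ b f = f := by
    have := LinearMap.congr_fun hbP f
    rwa [Module.End.mul_apply, hPf] at this
  have hbe : d.ρ b e = e := by
    have := LinearMap.congr_fun hbP e
    rwa [Module.End.mul_apply, hPe] at this
  have han : ∀ x, d.ρ b x = x → d.ρ d.a (d.ρ n x) = d.ρ n (d.ρ d.a x) := fun x hx => by
    conv_lhs => rw [← hnc, d.ρ_mul, inv_mul_cancel_right, ← d.ρ_mul, ← d.ρ_mul]
    rw [hx]
  have haf' : d.ρ d.a f' = f' + e' := by rw [hf', han f hbf, haf, map_add, he']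
  have hae' : d.ρ d.a e' = e' := by rw [he', han e hbe, hae]
  have h1 : d.β f e' = 0 := by
    have h := hell (d.ρ n⁻¹ f)
    rw [← d.ell_conj, hna, ell, hbf, d.alt, mul_zero] at h
    rw [he', d.symm, d.adj, d.symm]
    exact mul_self_eq_zero.1 h.symm
  have h2' : d.β e e' = 0 := by
    have h := hell e'
    rw [ell, hae', d.alt, mul_zero] at h
    rw [d.symm]
    exact mul_self_eq_zero.1 h.symm
  have h3 : d.β e f' ≠ 0 := by
    intro h0
    have h := hell f'
    rw [ell, haf', map_add, LinearMap.add_apply, d.alt, zero_add, d.symm f' e, h0, mul_zero,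
      he', hf', d.inv] at h
    exact hl ((mul_self_eq_zero.1 h).trans rfl)
  have hgram := d.inv d.a f f'
  rw [haf, haf'] at hgram
  simp only [map_add, LinearMap.add_apply, h1, h2', add_zero] at hgram
  exact h3 (by linear_combination hgram)

theorem trace_sum_mem {ι : Type*} (s : Finset ι) (F : ι → End k S)
    (h : ∀ i ∈ s, LinearMap.trace k S (F i) = 0 ∨ LinearMap.trace k S (F i) = 1) :
    LinearMap.trace k S (∑ i ∈ s, F i) = 0 ∨ LinearMap.trace k S (∑ i ∈ s, F i) = 1 := by
  induction s using Finset.induction_on with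
  | empty => left; simp
  | insert i s hi ih =>
    rw [sum_insert hi, map_add]
    rcases h i (mem_insert_self i s) with e | e <;>
      rcases ih fun j hj => h j (mem_insert_of_mem hj) with e' | e' <;> rw [e, e']
    exacts [Or.inl (add_zero 0), Or.inr (zero_add 1), Or.inr (add_zero 1),
      Or.inl (CharTwo.add_self_eq_zero 1)]

/-- The fixed points of `U` are not two-dimensional. -/
theorem false_of_two {b n : G} (h2 : finrank k (LinearMap.range d.P) = 2)
    (hH : ∀ h : G, Commute h d.a → ∃ u ∈ d.U,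
      h = u ∨ h = u * d.a ∨ h = u * b ∨ h = u * (d.a * b))
    (hUb : ∀ u ∈ d.U, b * u * b ∈ d.U)
    (hb : b * b = 1) (hab : Commute d.a b) (hne : d.a ≠ b) (hb1 : b ≠ 1)
    (hna : n * d.a * n⁻¹ = b) (hnc : n * (d.a * b) * n⁻¹ = d.a)
    (hfix : ∀ g : G, Commute (g⁻¹ * d.a * g) d.a → Commute (g⁻¹ * b * g) d.a →
      Commute g d.a ∨ Commute (n⁻¹ * g) d.a ∨ Commute (n * g) d.a) : False := by
  have hcomm : ∀ v : G, v * v = 1 → (∀ u ∈ d.U, v * u * v ∈ d.U) →
      d.ρ v * d.P = d.P * d.ρ v := by
    intro v hv hn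
    rw [P, mul_sum, sum_mul]
    refine Fintype.sum_bijective (fun u : d.U => (⟨v * u * v, hn u u.2⟩ : d.U))
      (Finite.injective_iff_bijective.1 fun x y h => Subtype.ext ?_) _ _ fun u => ?_
    · simpa using congrArg Subtype.val h
    · rw [← map_mul, ← map_mul]
      congr 1
      show v * (u : G) = v * u * v * v
      rw [mul_assoc (v * u), hv, mul_one]
  have haP := hcomm d.a d.ha fun u hu => by
    rw [mul_assoc, (d.hUa u hu).eq, ← mul_assoc, d.ha, one_mul]; exact hu
  have hbP := hcomm b hb hUb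
  have hc : d.a * b * (d.a * b) = 1 := by
    rw [hab.symm.mul_mul_mul_comm, d.ha, hb, one_mul]
  by_cases hA : d.ρ d.a * d.P = d.P
  · by_cases hB : d.ρ b * d.P = d.P
    · refine d.not_trivial (fun h0 => ?_) (fun h hh => ?_) hb hab hna hnc hne hb1 hfix
      · rw [h0, LinearMap.range_zero, finrank_bot] at h2
        omega
      · obtain ⟨u, hu, e⟩ := hH h hh
        have hA' : d.P * d.ρ d.a = d.P := haP ▸ hA
        have hB' : d.P * d.ρ b = d.P := hbP ▸ hB
        constructor
        · rcases e with rfl | rfl | rfl | rfl <;>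
            simp only [map_mul, mul_assoc, hA, hB, d.ρ_P hu]
        · rcases e with rfl | rfl | rfl | rfl <;>
            simp only [map_mul, ← mul_assoc, hA', hB', d.P_ρ hu]
    · obtain ⟨f, e, hPf, -, hbf, -, hl, -⟩ := d.exists_flag hb hbP h2 hB
      have hell0 : ∀ z, d.ell d.a z = 0 := fun z => by
        rw [← d.ell_P, ell, ← Module.End.mul_apply, hA, d.alt]
      have h := hell0 (d.ρ n⁻¹ f)
      rw [← d.ell_conj, hna, ell, hbf, map_add, LinearMap.add_apply, d.alt, zero_add] at h
      exact hl h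
  obtain ⟨f, e, hPf, hPe, haf, hae, -, hspan⟩ := d.exists_flag d.ha haP h2 hA
  have he0 : e ≠ 0 := fun h0 => hA (LinearMap.ext fun z => by
    obtain ⟨α, γ, hy⟩ := hspan (d.P z) (d.P_apply_P z)
    rw [Module.End.mul_apply, hy, map_add, map_smul, map_smul, haf, hae, h0, add_zero])
  set N := (d.ρ d.a + 1) * d.P with hN
  set N' := (d.ρ b + 1) * d.P with hN'
  -- `b` acts on the fixed points like a multiple of `a`
  obtain ⟨γ, hbe, hbf⟩ : ∃ γ : k, d.ρ b e = e ∧ d.ρ b f = f + γ • e := by
    have hPb : ∀ y, d.P y = y → d.P (d.ρ b y) = d.ρ b y := fun y hy => by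
      have := LinearMap.congr_fun hbP y
      simp only [Module.End.mul_apply] at this
      rw [← this, hy]
    have hbb : ∀ y, d.ρ b (d.ρ b y) = y := fun y => by rw [d.ρ_mul, hb, map_one]; rfl
    have habx : ∀ y, d.ρ d.a (d.ρ b y) = d.ρ b (d.ρ d.a y) := fun y => by
      rw [d.ρ_mul, d.ρ_mul, hab.eq]
    obtain ⟨α, δ, he⟩ := hspan (d.ρ b e) (hPb e hPe)
    have hα : α = 0 := by
      have h := habx e
      rw [hae, he, map_add, map_smul, map_smul, haf, hae, smul_add, add_right_comm] at h
      exact (smul_eq_zero.1 (add_eq_left.1 h)).resolve_right he0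
    rw [hα, zero_smul, zero_add] at he
    have hδ : δ = 1 := by
      have h := hbb e
      rw [he, map_smul, he, smul_smul] at h
      have h' : δ * δ = 1 := by
        by_contra hh
        apply he0
        have : (δ * δ + 1) • e = 0 := by rw [add_smul, one_smul, h]; exact add_self' (k := k) e
        exact (smul_eq_zero.1 this).resolve_left fun hz => hh (CharTwo.add_eq_zero.1 hz)
      have : (δ + 1) * (δ + 1) = 0 := by
        linear_combination h' + (δ + 1) * CharTwo.two_eq_zero (R := k)
      exact CharTwo.add_eq_zero.1 (mul_self_eq_zero.1 this)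
    rw [hδ, one_smul] at he
    obtain ⟨α', γ, hf⟩ := hspan (d.ρ b f) (hPb f hPf)
    refine ⟨γ, he, ?_⟩
    have hα' : α' = 1 := by
      have h := habx f
      rw [haf, map_add, he, hf, map_add, map_smul, map_smul, haf, hae, smul_add, add_right_comm]
        at h
      have : (α' + 1) • e = 0 := by
        rw [add_smul, one_smul, add_left_cancel h]; exact add_self' (k := k) e
      exact CharTwo.add_eq_zero.1 ((smul_eq_zero.1 this).resolve_right he0)
    rw [hf, hα', one_smul]
  have hNN : N' = γ • N := LinearMap.ext fun z => by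
    obtain ⟨α, δ, hy⟩ := hspan (d.P z) (d.P_apply_P z)
    simp only [hN, hN', LinearMap.smul_apply, Module.End.mul_apply, hy, LinearMap.add_apply,
      Module.End.one_apply, map_add, map_smul, haf, hae, hbf, hbe]
    linear_combination (norm := module) (CharTwo.two_eq_zero (R := k)) •
      ((α • f + δ • e) - γ • (α • f + δ • e))
  have hNne : N ≠ 0 := fun h0 => hA (by
    rw [hN, add_mul, one_mul] at h0
    calc d.ρ d.a * d.P = d.ρ d.a * d.P + d.P + d.P := by
          rw [add_assoc, add_self' (k := k), add_zero]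
      _ = d.P := by rw [h0, zero_add])
  obtain ⟨g, hg⟩ : ∃ g, LinearMap.trace k S (N * d.ρ g) ≠ 0 := by
    by_contra hh
    push Not at hh
    refine hNne (eq_zero_of_trace N fun F => ?_)
    obtain ⟨c, rfl⟩ := d.span F
    simp only [mul_sum, mul_smul_comm, map_sum, map_smul, hh, smul_zero, sum_const_zero]
  have hF2 : ∀ v : G, LinearMap.trace k S ((d.ρ v + 1) * d.P * d.ρ g) = 0 ∨
      LinearMap.trace k S ((d.ρ v + 1) * d.P * d.ρ g) = 1 := by
    intro v
    have e : (d.ρ v + 1) * d.P * d.ρ g = ∑ i : d.U ⊕ d.U,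
        Sum.elim (fun u : d.U => d.ρ (v * u * g)) (fun u : d.U => d.ρ (u * g)) i := by
      rw [Fintype.sum_sum_type, P]
      simp only [Sum.elim_inl, Sum.elim_inr, map_mul, add_mul, one_mul, mul_sum, sum_mul, sum_add_distrib]
    rw [e]
    exact trace_sum_mem _ _ fun i _ => by rcases i with u | u <;> exact d.tr _
  have hγ : γ = 0 ∨ γ = 1 := by
    have h1 : LinearMap.trace k S (N * d.ρ g) = 1 := (hF2 d.a).resolve_left hg
    have h' : LinearMap.trace k S (N' * d.ρ g) = γ := by
      rw [hNN, smul_mul_assoc, map_smul, h1, smul_eq_mul, mul_one]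
    exact h' ▸ hF2 b
  rcases hγ with rfl | rfl
  · refine d.not_flag haP h2 hA (LinearMap.ext fun z => ?_) hna hnc
    obtain ⟨α, δ, hy⟩ := hspan (d.P z) (d.P_apply_P z)
    simp only [Module.End.mul_apply, hy, map_add, map_smul, hbe, hbf, zero_smul, add_zero]
  · refine d.not_flag (b := d.a * b) (n := n⁻¹) haP h2 hA (LinearMap.ext fun z => ?_) ?_ ?_
    · obtain ⟨α, δ, hy⟩ := hspan (d.P z) (d.P_apply_P z)
      rw [Module.End.mul_apply, hy, map_mul, Module.End.mul_apply]
      simp only [map_add, map_smul, hbe, hbf, one_smul, haf, hae]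
      rw [add_assoc f, add_self' (k := k), add_zero]
    · conv_lhs => rw [← hnc]
      group
    · rw [inv_inv, ← mul_assoc d.a d.a, d.ha, one_mul, ← hna]
      group

end Setup

end CfsgLib.KleinEqual
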