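import Cfsg.Agent.Blocks.KleinPsl

/-!
# A Klein four Sylow subgroup with fused involutions: local data and sums over singular elements
-/

set_option autoImplicit false
set_option linter.style.haveILetI false
set_option linter.unusedSectionVars false

namespace CfsgLib.KleinEqual

open Cfsg Finset CfsgLib.Block CfsgLib.Block.Chr CfsgLib.Char
open scoped Classical

universe u

variable {G : Type u} [Group G] [Fintype G]

/-- The local data of an involution `a`. -/
structure Loc (a b n : G) (U : Subgroup G) : Prop where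
  ha : a * a = 1
  hb : b * b = 1
  ha1 : a ≠ 1
  hb1 : b ≠ 1
  hab : Commute a b
  hne : a ≠ b
  hU : Odd (Nat.card U)
  hUa : ∀ u ∈ U, Commute u a
  norm : ∀ h : G, Commute h a → ∀ u ∈ U, h * u * h⁻¹ ∈ U
  mem_of_odd : ∀ x : G, Commute x a → Odd (orderOf x) → x ∈ U
  dec : ∀ h : G, Commute h a → ∃ u ∈ U, h = u ∨ h = u * a ∨ h = u * b ∨ h = u * (a * b)
  hna : n * a * n⁻¹ = b
  hnc : n * (a * b) * n⁻¹ = a
  hfix : ∀ g : G, Commute (g⁻¹ * a * g) a → Commute (g⁻¹ * b * g) a →
    Commute g a ∨ Commute (n⁻¹ * g) a ∨ Commute (n * g) a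
  hcard : Nat.card G = (Subgroup.centralizer ({a} : Set G)).index * (4 * Nat.card U)
  sylow_le : ∀ Q : Sylow 2 G, ¬ 2 ^ 3 ≤ Nat.card Q

theorem exists_loc (P : Sylow 2 G) (hcard : Nat.card P = 4) (hexp : ∀ x : P, x * x = 1)
    (hone : ∀ s t : G, orderOf s = 2 → orderOf t = 2 → IsConj s t) {J : G}
    (hJP : J ∈ (P : Subgroup G)) (hJ : orderOf J = 2) :
    ∃ (b n : G) (U : Subgroup G), Loc J b n U := by
  haveI : Fact (Nat.Prime 2) := ⟨Nat.prime_two⟩
  have hJ1 : J ≠ 1 := fun h => by rw [h, orderOf_one] at hJ; omega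
  have hsq : ∀ x ∈ (P : Subgroup G), x * x = 1 := fun x hx =>
    congrArg Subtype.val (hexp ⟨x, hx⟩)
  have hcomm : ∀ x ∈ (P : Subgroup G), ∀ y ∈ (P : Subgroup G), Commute x y := fun x hx y hy => by
    have h3 := hsq _ (mul_mem hx hy)
    calc x * y = x⁻¹ * y⁻¹ := by
          rw [inv_eq_of_mul_eq_one_right (hsq x hx), inv_eq_of_mul_eq_one_right (hsq y hy)]
      _ = (y * x)⁻¹ := by rw [mul_inv_rev]
      _ = y * x := inv_eq_of_mul_eq_one_right (hsq _ (mul_mem hy hx))
  have hord : ∀ x ∈ (P : Subgroup G), x ≠ 1 → orderOf x = 2 := fun x hx h1 =>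
    orderOf_eq_prime (by rw [pow_two]; exact hsq x hx) h1
  obtain ⟨b, hb, hb1, hbJ⟩ : ∃ b ∈ (P : Subgroup G), b ≠ 1 ∧ b ≠ J := by
    by_contra hh
    push Not at hh
    have hle : ((P : Subgroup G) : Set G) ⊆ ({1, J} : Set G) := fun x hx => by
      by_cases h : x = 1
      · exact Or.inl h
      · exact Or.inr (hh x hx h)
    have := Set.ncard_le_ncard hle
    rw [Set.ncard_pair hJ1.symm, ← Nat.card_coe_set_eq] at this
    change Nat.card P ≤ 2 at this
    omega
  have hJJ := hsq J hJP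
  have hbb := hsq b hb
  have hc := mul_mem hJP hb
  have hc1 : J * b ≠ 1 := fun h => hbJ (by
    rw [← mul_one J, ← h, ← mul_assoc, hJJ, one_mul])
  have hcJ : J * b ≠ J := fun h => hb1 (mul_eq_left.1 h)
  have hcb : J * b ≠ b := fun h => hJ1 (mul_eq_right.1 h)
  have hP4 : ∀ x ∈ (P : Subgroup G), x = 1 ∨ x = J ∨ x = b ∨ x = J * b := by
    intro x hx
    by_contra hh
    push Not at hh
    obtain ⟨h1, h2, h3, h4⟩ := hh
    have hle : ({1, J, b, J * b, x} : Set G) ⊆ ((P : Subgroup G) : Set G) := by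
      rintro y (rfl | rfl | rfl | rfl | rfl)
      exacts [one_mem _, hJP, hb, hc, hx]
    have := Set.ncard_le_ncard hle
    rw [Set.ncard_insert_of_notMem (by simp [hJ1.symm, hb1.symm, hc1.symm, h1.symm]),
      Set.ncard_insert_of_notMem (by simp [hbJ.symm, hcJ.symm, h2.symm]),
      Set.ncard_insert_of_notMem (by simp [hcb.symm, h3.symm]), Set.ncard_pair h4.symm,
      ← Nat.card_coe_set_eq] at this
    change 5 ≤ Nat.card P at this
    omega
  haveI : IsMulCommutative (P : Subgroup G) :=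
    ⟨⟨fun x y => Subtype.ext (hcomm x x.2 y y.2)⟩⟩
  have hmove : ∀ x ∈ (P : Subgroup G), x ≠ 1 → ∃ m ∈ Subgroup.normalizer ((P : Subgroup G) : Set G),
      m * J * m⁻¹ = x := by
    intro x hx hx1
    obtain ⟨g, hg⟩ := isConj_iff.1 (hone J x hJ (hord x hx hx1))
    obtain ⟨m, hm, he⟩ := P.conj_eq_normalizer_conj_of_mem J g⁻¹ hJP
      (by rw [inv_inv, hg]; exact hx)
    rw [inv_inv, hg] at he
    exact ⟨m⁻¹, inv_mem hm, by rw [he]; group⟩
  have hperm : ∀ m ∈ Subgroup.normalizer ((P : Subgroup G) : Set G), ∀ x ∈ (P : Subgroup G),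
      x ≠ 1 → m * x * m⁻¹ = J ∨ m * x * m⁻¹ = b ∨ m * x * m⁻¹ = J * b := by
    intro m hm x hx h1
    rcases hP4 _ ((Subgroup.mem_normalizer_iff.1 hm x).1 hx) with h | h
    · exact absurd (conj_eq_one_iff.1 h) h1
    · exact h
  have hprod : ∀ m : G, m * (J * b) * m⁻¹ = m * J * m⁻¹ * (m * b * m⁻¹) := fun m => by group
  have hbc : b * J = J * b := (hcomm J hJP b hb).eq.symm
  obtain ⟨n, hnP, hna, hnb⟩ : ∃ n ∈ Subgroup.normalizer ((P : Subgroup G) : Set G),
      n * J * n⁻¹ = b ∧ n * b * n⁻¹ = J * b := by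
    obtain ⟨m, hm, hma⟩ := hmove b hb hb1
    rcases hperm m hm b hb hb1 with h | h | h
    · obtain ⟨m', hm', hma'⟩ := hmove (J * b) hc hc1
      rcases hperm m' hm' b hb hb1 with h' | h' | h'
      · refine ⟨m'⁻¹, inv_mem hm', ?_, ?_⟩
        · rw [← h', inv_inv]; group
        · have : m' * (J * b) * m'⁻¹ = b := by
            rw [hprod, hma', h', mul_assoc, hbc, ← mul_assoc, hJJ, one_mul]
          conv_lhs => rw [← this]
          group
      · refine ⟨m' * m, mul_mem hm' hm, ?_, ?_⟩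
        · rw [show m' * m * J * (m' * m)⁻¹ = m' * (m * J * m⁻¹) * m'⁻¹ by group, hma, h']
        · rw [show m' * m * b * (m' * m)⁻¹ = m' * (m * b * m⁻¹) * m'⁻¹ by group, h, hma']
      · exact absurd (conj_injective (hma'.trans h'.symm)) hbJ.symm
    · exact absurd (conj_injective (hma.trans h.symm)) hbJ.symm
    · exact ⟨m, hm, hma, h⟩
  have hnc : n * (J * b) * n⁻¹ = J := by
    rw [hprod, hna, hnb, ← mul_assoc, hbc, mul_assoc, hbb, mul_one]
  set H := Subgroup.centralizer ({J} : Set G) with hHdef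
  have hmem : ∀ {g : G}, g ∈ H ↔ Commute g J := fun {g} => by
    rw [hHdef, Subgroup.mem_centralizer_singleton_iff]; rfl
  obtain ⟨K, hK, hK2, hKidx⟩ := exists_complement_centralizer P hcard hexp hJP hJ1
  haveI := hK
  have hKodd : Odd (Nat.card K) := Nat.odd_iff.2 (by omega)
  have hPH : (P : Subgroup G) ≤ H := fun x hx => hmem.2 (hcomm x hx J hJP)
  have hcompl : Subgroup.IsComplement' K ((P : Subgroup G).subgroupOf H) := by
    have e : Nat.card ((P : Subgroup G).subgroupOf H) = 4 := by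
      rw [Nat.card_congr (Subgroup.subgroupOfEquivOfLe hPH).toEquiv]; exact hcard
    refine Subgroup.isComplement'_of_coprime ?_ ?_
    · rw [e, ← K.card_mul_index, hKidx]
      norm_num
    · rw [e, show (4 : ℕ) = 2 ^ 2 by norm_num]
      exact (Nat.coprime_two_right.2 hKodd).pow_right 2
  set U := K.map H.subtype with hUdef
  have hmemU : ∀ {x : G} (hx : x ∈ H), x ∈ U ↔ (⟨x, hx⟩ : H) ∈ K := fun {x} hx =>
    ⟨fun ⟨y, hy, he⟩ => by rwa [show (⟨x, hx⟩ : H) = y from Subtype.ext he.symm],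
      fun h => ⟨_, h, rfl⟩⟩
  refine ⟨b, n, U,
    { ha := hJJ, hb := hbb, ha1 := hJ1, hb1 := hb1, hab := hcomm J hJP b hb, hne := hbJ.symm,
      hU := by rwa [hUdef, Subgroup.card_map_of_injective H.subtype_injective],
      hUa := fun u hu => hmem.1 (Subgroup.map_subtype_le K hu),
      norm := ?_, mem_of_odd := ?_, dec := ?_, hna := hna, hnc := hnc, hfix := ?_, hcard := ?_,
      sylow_le := fun Q => by rw [Nat.card_congr (Sylow.equiv Q P).toEquiv, hcard]; norm_num }⟩
  · intro h hh u hu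
    obtain ⟨y, hy, rfl⟩ := hu
    exact ⟨_, hK.conj_mem y hy ⟨h, hmem.2 hh⟩, rfl⟩
  · intro x hx ho
    refine (hmemU (hmem.2 hx)).2 ?_
    have h4 : (⟨x, hmem.2 hx⟩ : H) ^ (2 ^ 2) ∈ K := hKidx ▸ Subgroup.pow_index_mem _ _
    obtain ⟨i, hi⟩ := exists_pow_eq_self_of_coprime (x := (⟨x, hmem.2 hx⟩ : H)) (n := 2 ^ 2)
      ((Nat.coprime_two_left.2 (by rwa [Subgroup.orderOf_mk])).pow_left 2)
    exact hi ▸ pow_mem h4 i
  · intro h hh
    obtain ⟨⟨⟨k, hk⟩, ⟨p, hp⟩⟩, he, -⟩ := hcompl.existsUnique (⟨h, hmem.2 hh⟩ : H)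
    refine ⟨(k : G), ⟨k, hk, rfl⟩, ?_⟩
    have he' : h = (k : G) * (p : G) := (congrArg Subtype.val he).symm
    rcases hP4 _ (show (p : G) ∈ (P : Subgroup G) from hp) with e | e | e | e <;> rw [e] at he'
    · exact Or.inl (he'.trans (mul_one _))
    · exact Or.inr (Or.inl he')
    · exact Or.inr (Or.inr (Or.inl he'))
    · exact Or.inr (Or.inr (Or.inr he'))
  · intro g h1 h2
    set x := g * J * g⁻¹ with hx
    have hxJ : Commute x J := by
      have := (Commute.conj_iff g).2 h1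
      rw [show g * (g⁻¹ * J * g) * g⁻¹ = J by group, ← hx] at this
      exact this.symm
    have hxb : Commute x b := by
      have := (Commute.conj_iff g).2 h2
      rw [show g * (g⁻¹ * b * g) * g⁻¹ = b by group, ← hx] at this
      exact this.symm
    have hx2 : x * x = 1 := by
      rw [hx, show g * J * g⁻¹ * (g * J * g⁻¹) = g * (J * J) * g⁻¹ by group, hJJ]; group
    have hx1 : x ≠ 1 := fun h => hJ1 (conj_eq_one_iff.1 h)
    have hxP : x ∈ (P : Subgroup G) := by
      have hpx : IsPGroup 2 (Subgroup.zpowers x) :=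
        IsPGroup.of_card (n := 1) (by rw [Nat.card_zpowers, pow_one,
          orderOf_eq_prime (by rw [pow_two]; exact hx2) hx1])
      have hnorm : Subgroup.zpowers x ≤ Subgroup.normalizer ((P : Subgroup G) : Set G) := by
        refine Subgroup.zpowers_le.2 (Subgroup.centralizer_le_normalizer _ ?_)
        refine Subgroup.mem_centralizer_iff.2 fun y hy => ?_
        rcases hP4 y hy with rfl | rfl | rfl | rfl
        · rw [one_mul, mul_one]
        · exact hxJ.eq.symm
        · exact hxb.eq.symm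
        · exact (hxJ.mul_right hxb).eq.symm
      have hsup := hpx.to_sup_of_normal_right' P.isPGroup' hnorm
      exact P.is_maximal' hsup le_sup_right ▸ Subgroup.mem_sup_left (Subgroup.mem_zpowers x)
    rcases hP4 x hxP with e | e | e | e
    · exact absurd e hx1
    · exact Or.inl (mul_inv_eq_iff_eq_mul.1 e)
    · refine Or.inr (Or.inl (mul_inv_eq_iff_eq_mul.1 ?_))
      rw [show n⁻¹ * g * J * (n⁻¹ * g)⁻¹ = n⁻¹ * (g * J * g⁻¹) * n by group, ← hx, e, ← hna]
      group
    · refine Or.inr (Or.inr (mul_inv_eq_iff_eq_mul.1 ?_))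
      rw [show n * g * J * (n * g)⁻¹ = n * (g * J * g⁻¹) * n⁻¹ by group, ← hx, e, hnc]
  · rw [← H.index_mul_card, hUdef, Subgroup.card_map_of_injective H.subtype_injective]
    congr 1
    rw [← K.index_mul_card, hKidx, show (2 : ℕ) ^ 2 = 4 by norm_num]

variable {a b n : G} {U : Subgroup G} (L : Loc a b n U)
include L

theorem Loc.not_dvd {u : G} (hu : u ∈ U) : ¬ 2 ∣ orderOf u := fun h =>
  L.hU.not_two_dvd_nat (h.trans (Subgroup.orderOf_dvd_natCard U hu))

/-- A sum over the singular elements is one over the translates of `a U`. -/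
theorem Loc.sum_singular (hone : ∀ s t : G, orderOf s = 2 → orderOf t = 2 → IsConj s t)
    (P : Sylow 2 G) (hcard : Nat.card P = 4) (hexp : ∀ x : P, x * x = 1) (F : G → ℂ)
    (hF : ∀ g x : G, F (x * g * x⁻¹) = F g) :
    ∑ g ∈ univ.filter (fun g => 2 ∣ orderOf g), F g =
      ((Subgroup.centralizer ({a} : Set G)).index : ℂ) * ∑ u : U, F (a * (u : G)) := by
  set H := Subgroup.centralizer ({a} : Set G) with hHdef
  have hmem : ∀ {g : G}, g ∈ H ↔ Commute g a := fun {g} => by
    rw [hHdef, Subgroup.mem_centralizer_singleton_iff]; rfl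
  have ha2 : orderOf a = 2 := orderOf_eq_prime (by rw [pow_two]; exact L.ha) L.ha1
  let φ : (G ⧸ H) × U → G := fun z => z.1.out * (a * (z.2 : G)) * z.1.out⁻¹
  have hinj : Function.Injective φ := by
    rintro ⟨q, u⟩ ⟨q', u'⟩ h
    have h' : q'.out⁻¹ * q.out * (a * (u : G)) * (q'.out⁻¹ * q.out)⁻¹ = a * (u' : G) := by
      rw [show q'.out⁻¹ * q.out * (a * (u : G)) * (q'.out⁻¹ * q.out)⁻¹ =
        q'.out⁻¹ * φ (q, u) * q'.out by simp only [φ]; group, h]
      simp only [φ]; group
    obtain ⟨h1, -⟩ := fix_of_conj_section Nat.prime_two (x := a) (k := 1) (by rw [ha2, pow_one])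
      (y := ⟨u, hmem.2 (L.hUa u u.2)⟩) (y' := ⟨u', hmem.2 (L.hUa u' u'.2)⟩)
      (by rw [Subgroup.orderOf_mk]; exact L.not_dvd u.2)
      (by rw [Subgroup.orderOf_mk]; exact L.not_dvd u'.2) h'
    obtain rfl : q' = q := by
      rw [← QuotientGroup.out_eq' q', ← QuotientGroup.out_eq' q, QuotientGroup.eq]
      exact h1
    refine Prod.ext rfl (Subtype.ext ?_)
    simpa [φ] using h
  have himage : univ.image φ = univ.filter (fun g => 2 ∣ orderOf g) := by
    ext g
    simp only [mem_image, mem_univ, true_and, mem_filter]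
    constructor
    · rintro ⟨⟨q, u⟩, rfl⟩
      simp only [φ]
      rw [show orderOf (q.out * (a * (u : G)) * q.out⁻¹) = orderOf (a * (u : G)) from
        orderOf_injective (MulAut.conj q.out).toMonoidHom (MulAut.conj q.out).injective _,
        (L.hUa u u.2).symm.orderOf_mul_eq_mul_orderOf_of_coprime, ha2]
      · exact dvd_mul_right 2 _
      · rw [ha2]; exact Nat.prime_two.coprime_iff_not_dvd.2 (L.not_dvd u.2)
    · intro hg
      obtain ⟨x, s, hxs, hc, ⟨j, hj⟩, -, -, hs, hxa, -, -⟩ := exists_pPart Nat.prime_two g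
      obtain ⟨Q, hxQ, -, hQexp⟩ := exists_sylow_klein P hcard hexp hxa
      have hx1 : x ≠ 1 := by
        rintro rfl
        rw [one_mul] at hxs
        exact hs (hxs ▸ hg)
      have hx2 : orderOf x = 2 :=
        orderOf_eq_prime (by rw [pow_two]; exact congrArg Subtype.val (hQexp ⟨x, hxQ⟩)) hx1
      obtain ⟨c, hcx⟩ := isConj_iff.1 (hone a x ha2 hx2)
      set s' := c⁻¹ * s * c with hs'
      have hs'U : s' ∈ U := by
        refine L.mem_of_odd _ ?_ ?_
        · have := (Commute.conj_iff c⁻¹).2 hc.symm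
          rw [inv_inv, ← hs', show c⁻¹ * x * c = a by rw [← hcx]; group] at this
          exact this
        · rw [hs', show orderOf (c⁻¹ * s * c) = orderOf s by
            simpa using orderOf_injective (MulAut.conj c⁻¹).toMonoidHom
              (MulAut.conj c⁻¹).injective s]
          exact Nat.odd_iff.2 (Nat.two_dvd_ne_zero.1 hs)
      obtain ⟨h, hh⟩ := QuotientGroup.mk_out_eq_mul H c
      have hu : (h : G)⁻¹ * s' * (h : G) ∈ U := by
        simpa using L.norm _ (hmem.1 (inv_mem h.2)) s' hs'U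
      refine ⟨(QuotientGroup.mk c, ⟨_, hu⟩), ?_⟩
      simp only [φ, hh]
      have hha : Commute (h : G) a := hmem.1 h.2
      calc c * (h : G) * (a * ((h : G)⁻¹ * s' * (h : G))) * (c * (h : G))⁻¹
          = c * ((h : G) * a * (h : G)⁻¹ * s') * c⁻¹ := by group
        _ = c * a * c⁻¹ * s := by rw [hha.eq, mul_inv_cancel_right, hs']; group
        _ = g := by rw [hcx, hxs]
  rw [← himage, sum_image fun x _ y _ h => hinj h, Fintype.sum_prod_type,
    sum_congr rfl fun q _ => sum_congr rfl fun u _ => hF _ _]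
  show ∑ _q : G ⧸ H, ∑ u : U, F (a * (u : G)) = _
  rw [sum_const, card_univ, nsmul_eq_mul, ← Nat.card_eq_fintype_card, Subgroup.index]

/-- A real character of the principal block with value `-1` on involutions has the trivial
character of `U` with multiplicity three. -/
theorem Loc.mult_three (hone : ∀ s t : G, orderOf s = 2 → orderOf t = 2 → IsConj s t)
    (P : Sylow 2 G) (hcard : Nat.card P = 4) (hexp : ∀ x : P, x * x = 1) {χ : IrrCharacter G}
    (hsing : ∀ g : G, 2 ∣ orderOf g → (χ : G → ℂ) g = -1) (hne : χ ≠ oneIrr G)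
    (hν : (Nat.card G : ℂ)⁻¹ * ∑ g : G, (χ : G → ℂ) (g * g) = 1) :
    ∑ u : U, (χ : G → ℂ) (u : G) = 3 * (Nat.card U : ℂ) := by
  letI := irrFintype (G := G)
  set R := univ.filter (fun g : G => ¬ 2 ∣ orderOf g)
  set Sg := univ.filter (fun g : G => 2 ∣ orderOf g)
  have hsplit : ∀ F : G → ℂ, ∑ g : G, F g = ∑ g ∈ Sg, F g + ∑ g ∈ R, F g := fun F =>
    (sum_filter_add_sum_filter_not univ _ F).symm
  have hsq : ∑ g ∈ R, (χ : G → ℂ) (g * g) = ∑ g ∈ R, (χ : G → ℂ) g := by
    refine sum_bij' (fun g _ => g * g) (fun g _ => g ^ ((orderOf g + 1) / 2)) (fun g hg => ?_)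
      (fun g hg => ?_) (fun g hg => ?_) (fun g hg => ?_) (fun g _ => rfl)
    · refine mem_filter.2 ⟨mem_univ _, fun h => (mem_filter.1 hg).2 (h.trans ?_)⟩
      rw [← pow_two]; exact orderOf_pow_dvd 2
    · exact mem_filter.2 ⟨mem_univ _, fun h => (mem_filter.1 hg).2 (h.trans (orderOf_pow_dvd _))⟩
    · have hg' := (mem_filter.1 hg).2
      have : orderOf (g * g) = orderOf g := by
        rw [← pow_two, orderOf_pow, Nat.coprime_iff_gcd_eq_one.1
          (Nat.coprime_two_right.2 (Nat.odd_iff.2 (Nat.two_dvd_ne_zero.1 hg'))), Nat.div_one]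
      rw [this, ← pow_two, ← pow_mul, show 2 * ((orderOf g + 1) / 2) = orderOf g + 1 by omega,
        pow_succ, pow_orderOf_eq_one, one_mul]
    · have hg' := (mem_filter.1 hg).2
      rw [← pow_add, show (orderOf g + 1) / 2 + (orderOf g + 1) / 2 = orderOf g + 1 by omega,
        pow_succ, pow_orderOf_eq_one, one_mul]
  have htot : ∑ g : G, (χ : G → ℂ) g = 0 := by
    have h := classInner_irr χ (oneIrr G)
    rw [if_neg hne] at h
    simp only [classInner, oneIrr_coe, map_one, mul_one] at h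
    exact (mul_eq_zero.1 h).resolve_left (inv_ne_zero (Nat.cast_ne_zero.2 Nat.card_pos.ne'))
  have hcf : ∀ g x : G, (χ : G → ℂ) (x * g * x⁻¹) = (χ : G → ℂ) g := isClassFunction_irr χ
  have h1 : ∑ g ∈ Sg, (χ : G → ℂ) g =
      ((Subgroup.centralizer ({a} : Set G)).index : ℂ) * (-(Nat.card U : ℂ)) := by
    rw [L.sum_singular hone P hcard hexp _ hcf, sum_congr rfl fun (u : U) _ => hsing _ ?_, sum_const,
      card_univ, ← Nat.card_eq_fintype_card, nsmul_eq_mul, mul_neg_one]
    rw [(L.hUa u u.2).symm.orderOf_mul_eq_mul_orderOf_of_coprime,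
      orderOf_eq_prime (by rw [pow_two]; exact L.ha) L.ha1]
    · exact dvd_mul_right 2 _
    · rw [orderOf_eq_prime (by rw [pow_two]; exact L.ha) L.ha1]
      exact Nat.prime_two.coprime_iff_not_dvd.2 (L.not_dvd u.2)
  have h2 : ∑ g ∈ Sg, (χ : G → ℂ) (g * g) =
      ((Subgroup.centralizer ({a} : Set G)).index : ℂ) * ∑ u : U, (χ : G → ℂ) (u : G) := by
    rw [L.sum_singular hone P hcard hexp (fun g => (χ : G → ℂ) (g * g)) fun g x => by
      rw [show x * g * x⁻¹ * (x * g * x⁻¹) = x * (g * g) * x⁻¹ by group]; exact hcf _ _]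
    congr 1
    refine Fintype.sum_equiv (powCoprime (n := 2) (Nat.coprime_two_right.2 L.hU)) _ _ fun u => ?_
    rw [powCoprime_apply, Subgroup.coe_pow, pow_two,
      (L.hUa u u.2).mul_mul_mul_comm, L.ha, one_mul]
  have hG : (Nat.card G : ℂ) =
      ((Subgroup.centralizer ({a} : Set G)).index : ℂ) * (4 * (Nat.card U : ℂ)) := by
    rw [L.hcard]; push_cast; ring
  rw [hsplit, h2, hsq] at hν
  rw [hsplit, h1] at htot
  have hi : ((Subgroup.centralizer ({a} : Set G)).index : ℂ) ≠ 0 :=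
    Nat.cast_ne_zero.2 Subgroup.index_ne_zero_of_finite
  rw [inv_mul_eq_one₀ (Nat.cast_ne_zero.2 Nat.card_pos.ne'), hG] at hν
  refine mul_left_cancel₀ hi ?_
  linear_combination -hν - htot

end CfsgLib.KleinEqual
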