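import Cfsg.Agent.Blocks.KleinEqual.Modules
import Cfsg.Agent.Blocks.KleinEqual.Local
import Cfsg.Agent.BlocksB.GaloisParity

/-!
# Klein four Sylow subgroup: two principal characters with value `-1` have equal degrees
-/

set_option autoImplicit false
set_option linter.style.haveILetI false
set_option linter.unusedSectionVars false

namespace CfsgLib.KleinEqual

open Cfsg Finset CfsgLib.Block CfsgLib.Block.Chr CfsgLib.BrauerPairs CfsgLib.BlockStar
  CfsgLib.Cyclic CfsgLib.BrauerBasis CfsgLib.Char Module
open scoped Classical ComplexConjugate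

universe u

variable {G : Type u} [Group G] [Fintype G] {M : Ideal AlgInt} [M.IsPrime] [CharP (Residue M) 2]
  [Fact (Nat.Prime 2)] {a b n : G} {U : Subgroup G}

/-- A simple module of the principal block has fixed points for `U`. -/
theorem subSum_ne_zero (hM : IsPModular 2 M) (L : Loc a b n U) (S : Type u) [AddCommGroup S]
    [Module (Residue M) S] [Module (MonoidAlgebra (Residue M) G) S]
    [IsScalarTower (Residue M) (MonoidAlgebra (Residue M) G) S]
    [FiniteDimensional (Residue M) S] [IsSimpleModule (MonoidAlgebra (Residue M) G) S]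
    (he : ∀ x : S, idem M (principalBlock M G) • x = x) :
    act (Residue M) S (subSum M U) ≠ 0 := by
  haveI := IsSimpleModule.nontrivial (MonoidAlgebra (Residue M) G) S
  set H := Subgroup.centralizer ({a} : Set G) with hHdef
  have hmem : ∀ {g : G}, g ∈ H ↔ Commute g a := fun {g} => by
    rw [hHdef, Subgroup.mem_centralizer_singleton_iff]; rfl
  let f : G → ℂ := fun g => ∑ q : G ⧸ H, if q.out⁻¹ * g * q.out ∈ U then 1 else 0
  have hout : ∀ w g : G, ((QuotientGroup.mk w : G ⧸ H).out⁻¹ * g * (QuotientGroup.mk w : G ⧸ H).out ∈ U ↔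
      w⁻¹ * g * w ∈ U) := fun w g => by
    obtain ⟨h, hh⟩ := QuotientGroup.mk_out_eq_mul H w
    rw [hh]
    constructor <;> intro hx
    · have := L.norm _ (hmem.1 h.2) _ hx
      rwa [show (h : G) * ((w * (h : G))⁻¹ * g * (w * (h : G))) * (h : G)⁻¹ = w⁻¹ * g * w by group]
        at this
    · have := L.norm _ (hmem.1 (inv_mem h.2)) _ hx
      rwa [show (h : G)⁻¹ * (w⁻¹ * g * w) * (h : G)⁻¹⁻¹ = (w * (h : G))⁻¹ * g * (w * (h : G)) by
        group] at this
  have hfc : IsClassFunction G f := by
    intro g x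
    refine Fintype.sum_equiv (MulAction.toPerm x⁻¹) _ _ fun q => ?_
    obtain ⟨w, rfl⟩ := QuotientGroup.mk_surjective q
    refine if_congr ?_ rfl rfl
    rw [hout, MulAction.toPerm_apply, MulAction.Quotient.smul_mk, hout, smul_eq_mul]
    rw [show (x⁻¹ * w)⁻¹ * g * (x⁻¹ * w) = w⁻¹ * (x * g * x⁻¹) * w by group]
  have hfm : ∀ g, MemLocalRing M (f g) := fun g => memLocalRing_sum fun q _ => by
    split_ifs
    exacts [memLocalRing_one, memLocalRing_zero]
  have hz := redFun_mem (M := M) hfc
  have hzsum : redFun M f = ∑ q : G ⧸ H, MonoidAlgebra.single q.out (1 : Residue M) * subSum M U *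
      MonoidAlgebra.single q.out⁻¹ 1 := by
    refine coeff_ext fun g => ?_
    rw [coeff_redFun, red_sum _ fun q _ => by split_ifs; exacts [memLocalRing_one, memLocalRing_zero],
      MonoidAlgebra.coeff_sum, Finsupp.finsetSum_apply]
    refine sum_congr rfl fun q _ => ?_
    rw [Cyclic.red_ite, subSum, mul_sum, sum_mul, MonoidAlgebra.coeff_sum,
      Finsupp.finsetSum_apply]
    simp only [MonoidAlgebra.single_mul_single, mul_one, MonoidAlgebra.coeff_single,
      Finsupp.single_apply]
    split_ifs with h
    · rw [sum_eq_single (⟨_, h⟩ : U) (fun u _ hu => if_neg fun e => hu (Subtype.ext (by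
        show (u : G) = q.out⁻¹ * g * q.out
        rw [← e]; group))) (by simp), if_pos]
      group
    · refine (sum_eq_zero fun u _ => if_neg fun e => h ?_).symm
      rw [← e, show q.out⁻¹ * (q.out * (u : G) * q.out⁻¹) * q.out = (u : G) by group]
      exact u.2
  -- its central character on the principal block is one
  have hlam1 : lam (oneIrr G) (redFun M f) = 1 := by
    rw [lam_redFun _ ⟨hfc, hfm⟩, omega]
    simp only [oneIrr_coe, mul_one, div_one]
    have e : ∑ g : G, f g = ((Nat.card (G ⧸ H) * Nat.card U : ℕ) : ℂ) := by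
      simp only [f]
      rw [sum_comm]
      push_cast
      rw [← sum_congr rfl fun q _ => Fintype.sum_equiv (MulAut.conj q.out).toEquiv
        (fun g => if g ∈ U then (1 : ℂ) else 0) _ fun g => by
          refine if_congr ?_ rfl rfl
          simp [MulAut.conj_apply, mul_assoc]]
      rw [sum_const, card_univ, nsmul_eq_mul, sum_boole, Nat.card_eq_fintype_card,
        Nat.card_eq_fintype_card (α := U), Fintype.card_subtype]
    have hodd : Odd (Nat.card (G ⧸ H) * Nat.card U) := by
      refine Odd.mul ?_ L.hU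
      have hd : ¬ 2 ∣ H.index := by
        intro h2
        obtain ⟨j, hj⟩ := h2
        have h8 : 8 ∣ Nat.card G := ⟨j * Nat.card U, by rw [L.hcard, hj]; ring⟩
        obtain ⟨Q⟩ : Nonempty (Sylow 2 G) := inferInstance
        have hle := Q.card_eq_multiplicity
        have h3 : 3 ≤ (Nat.card G).factorization 2 :=
          (Nat.prime_two.pow_dvd_iff_le_factorization Nat.card_pos.ne').1 (by rw [show (2 : ℕ) ^ 3 = 8 by norm_num]; exact h8)
        exact L.sylow_le Q (hle ▸ Nat.pow_le_pow_right two_pos h3)
      exact Nat.odd_iff.2 (Nat.two_dvd_ne_zero.1 hd)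
    rw [e]
    generalize Nat.card (G ⧸ H) * Nat.card U = m at hodd ⊢
    rw [red_eq (natCast_mem (localRing M) m),
      show (⟨(m : ℂ), natCast_mem (localRing M) m⟩ : localRing M) = (m : localRing M) from
        Subtype.ext (by simp), map_natCast, natCast_odd hodd]
  -- so it acts as one
  have hB : IsPBlock M (principalBlock M G) := isPBlock_principalBlock
  set e := idem M (principalBlock M G) with hedef
  have hmem' : redFun M f * e - e ∈ alg (Residue M) ⊤ ⊤ :=
    sub_mem (mul_mem hz (idem_mem _)) (idem_mem _)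
  obtain ⟨N, hN⟩ := isNilpotent_of_lam hM hmem' fun χ => by
    rw [lam_sub χ (mul_mem hz (idem_mem _)) (idem_mem _), lam_mul χ hz (idem_mem _), lam_idem hB χ]
    split_ifs with h
    · rw [lam_eq_of_sameBlock hB h oneIrr_mem_principalBlock hz, hlam1, one_mul, sub_self]
    · rw [mul_zero, sub_zero]
  obtain ⟨c, hc⟩ := exists_scalar (k := Residue M) (G := G) (h := act (Residue M) S (redFun M f))
    fun x s => by
      rw [act_apply, act_apply, ← mul_smul, ← mul_smul,
        alg_commute le_rfl (suppIn_top x) hz.2]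
  have hact : act (Residue M) S (redFun M f * e - e) = (c - 1) • 1 := LinearMap.ext fun x => by
    rw [act_apply, sub_smul, mul_smul, he, ← act_apply, hc, LinearMap.smul_apply,
      Module.End.one_apply, sub_smul, one_smul]
  have hc1 : c = 1 := by
    have h : act (Residue M) S (redFun M f * e - e) ^ N =
        ((c - 1) • (1 : Module.End (Residue M) S)) ^ N := by rw [hact]
    rw [← map_pow, hN, map_zero, smul_pow, one_pow] at h
    have : (c - 1) ^ N = 0 := by
      obtain ⟨x, hx⟩ := exists_ne (0 : S)
      exact (smul_eq_zero.1 (LinearMap.congr_fun h x).symm).resolve_right hx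
    exact sub_eq_zero.1 (eq_zero_of_pow_eq_zero this)
  intro h0
  obtain ⟨x, hx⟩ := exists_ne (0 : S)
  refine hx ?_
  have h1 := hc x
  rw [hc1, one_smul] at h1
  rw [← h1, act_apply, hzsum, sum_smul]
  refine sum_eq_zero fun q _ => ?_
  rw [mul_smul, mul_smul, ← act_apply (subSum M U), h0, LinearMap.zero_apply, smul_zero]

/-- A nontrivial simple module of the principal block with rational traces is impossible unless
its space of fixed points of `U` has dimension at least four. -/
theorem four_le_rank (hM : IsPModular 2 M) (L : Loc a b n U) (S : Type u) [AddCommGroup S]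
    [Module (Residue M) S] [Module (MonoidAlgebra (Residue M) G) S]
    [IsScalarTower (Residue M) (MonoidAlgebra (Residue M) G) S]
    [FiniteDimensional (Residue M) S] [IsSimpleModule (MonoidAlgebra (Residue M) G) S]
    (he : ∀ x : S, idem M (principalBlock M G) • x = x)
    (hsq : ∀ s : G, ¬ 2 ∣ orderOf s → bchar 2 M S (s * s) = bchar 2 M S s)
    (hinv : ∀ s : G, ¬ 2 ∣ orderOf s → bchar 2 M S s⁻¹ = bchar 2 M S s)
    (hnt : ∃ g : G, ∃ x : S, rep M S g x ≠ x) :
    4 ≤ finrank (Residue M) (LinearMap.range (act (Residue M) S (subSum M U))) := by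
  have hval : ∀ s t : G, ¬ 2 ∣ orderOf s → ¬ 2 ∣ orderOf t → bchar 2 M S s = bchar 2 M S t →
      LinearMap.trace (Residue M) S (rep M S s) = LinearMap.trace (Residue M) S (rep M S t) := by
    intro s t hs ht h
    simp only [bchar, if_neg hs, if_neg ht] at h
    show LinearMap.trace (Residue M) S (act (Residue M) S (MonoidAlgebra.single s 1)) =
      LinearMap.trace (Residue M) S (act (Residue M) S (MonoidAlgebra.single t 1))
    rw [← res_bval hM hs, ← res_bval hM ht, Subtype.ext h]
  have hreg : ∀ g : G, ∃ x s : G, PElt 2 x s ∧ x * s = g ∧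
      LinearMap.trace (Residue M) S (rep M S g) = LinearMap.trace (Residue M) S (rep M S s) := by
    intro g
    obtain ⟨x, s, h, rfl⟩ := exists_pElt 2 g
    obtain ⟨j, hj⟩ := h.pow
    exact ⟨x, s, h, rfl, trace_pPart (k := Residue M) (S := S) h.comm hj⟩
  have htr2 : ∀ g : G, LinearMap.trace (Residue M) S (rep M S g) = 0 ∨
      LinearMap.trace (Residue M) S (rep M S g) = 1 := by
    intro g
    obtain ⟨x, s, h, -, e⟩ := hreg g
    rw [e]
    have hs2 : ¬ 2 ∣ orderOf (s * s) := fun hd => h.reg (hd.trans (by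
      rw [← pow_two]; exact orderOf_pow_dvd 2))
    have h1 := hval (s * s) s hs2 h.reg (hsq s h.reg)
    set T := LinearMap.trace (Residue M) S (rep M S s) with hT
    let bs := Module.finBasis (Residue M) S
    rw [← pow_two, map_pow, LinearMap.trace_eq_matrix_trace (Residue M) bs,
      ← LinearMap.toMatrix_pow, CRWeights.trace_pow_char,
      ← LinearMap.trace_eq_matrix_trace, ← hT] at h1
    have : T * (T - 1) = 0 := by linear_combination h1
    rcases mul_eq_zero.1 this with h0 | h0
    exacts [Or.inl h0, Or.inr (sub_eq_zero.1 h0)]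
  have htri : ∀ g : G, LinearMap.trace (Residue M) S (rep M S g⁻¹) =
      LinearMap.trace (Residue M) S (rep M S g) := by
    intro g
    obtain ⟨x, s, h, rfl, e⟩ := hreg g
    obtain ⟨j, hj⟩ := h.pow
    rw [e, show (x * s)⁻¹ = x⁻¹ * s⁻¹ by rw [← mul_inv_rev, h.comm.eq]]
    refine (trace_pPart (k := Residue M) (S := S) h.comm.inv_inv (by rw [inv_pow, hj, inv_one])).trans ?_
    exact hval _ _ (by rw [orderOf_inv]; exact h.reg) h.reg (hinv s h.reg)
  obtain ⟨β, halt, hnd, hinvβ⟩ := exists_form (M := M) (G := G) htri hnt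
  let d : Setup (Residue M) S G :=
    { ρ := rep M S, β := β, alt := halt, nd := hnd, inv := hinvβ
      schur := fun f hf => schur_rep (M := M) f hf
      fix := fun x hx => fix_rep (M := M) hnt hx
      span := fun f => span_rep (M := M) f
      tr := htr2, a := a, U := U, hU := L.hU, ha := L.ha, hUa := L.hUa }
  have hP : d.P = act (Residue M) S (subSum M U) := by
    rw [Setup.P, subSum, map_sum]; rfl
  rw [← hP]
  have hne : finrank (Residue M) (LinearMap.range d.P) ≠ 0 := fun h => by
    rw [Submodule.finrank_eq_zero, LinearMap.range_eq_bot, hP] at h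
    exact subSum_ne_zero hM L S he h
  have h2 : finrank (Residue M) (LinearMap.range d.P) ≠ 2 := fun h =>
    d.false_of_two (b := b) (n := n) h L.dec (fun u hu => by
      simpa [inv_eq_of_mul_eq_one_right L.hb] using L.norm b L.hab.symm u hu)
      L.hb L.hab L.hne L.hb1 L.hna L.hnc L.hfix
  have hev : Even (finrank (Residue M) (LinearMap.range d.P)) := by
    set X := LinearMap.range d.P
    obtain ⟨m, j, bs, -, -, -, hrad⟩ := CfsgLib.Forms.exists_symplectic_basis _ X
      (β.domRestrict₁₂ X X) (fun x => halt x) rfl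
    obtain rfl : j = 0 := by
      rcases Nat.eq_zero_or_pos j with h | h
      · exact h
      refine absurd (Subtype.ext (hnd _ fun y => ?_)) (bs.ne_zero (Sum.inr ⟨0, h⟩))
      obtain ⟨z, hz⟩ := (bs (Sum.inr ⟨0, h⟩)).2
      have h0 := hrad ⟨0, h⟩ ⟨d.P y, y, rfl⟩
      have h0' : β (bs (Sum.inr ⟨0, h⟩) : S) (d.P y) = 0 := h0
      rw [← hz] at h0' ⊢
      have := d.P_adj (d.P z) y
      rw [d.P_apply_P] at this
      exact this.trans h0'
    rw [Module.finrank_eq_card_basis bs]
    exact ⟨m, by simp⟩
  obtain ⟨m, hm⟩ := hev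
  omega

/-- Two principal characters with value `-1` at the involutions have equal degrees. -/
theorem degree_eq_three (hM : IsPModular 2 M) (L : Loc a b n U) {χ : IrrCharacter G}
    (hχ : χ ∈ principalBlock M G) (hmult : ∑ u : U, (χ : G → ℂ) (u : G) = 3 * (Nat.card U : ℂ))
    (hall : ∀ ψ ∈ principalBlock M G, ∀ s : G, ¬ 2 ∣ orderOf s →
      (ψ : G → ℂ) (s * s) = (ψ : G → ℂ) s ∧ (ψ : G → ℂ) s⁻¹ = (ψ : G → ℂ) s) :
    charDegree (χ : G → ℂ) = 3 := by
  letI := irrFintype (G := G)
  have hB : IsPBlock M (principalBlock M G) := isPBlock_principalBlock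
  haveI : Fintype (bsetB 2 M (principalBlock M G)) := (finite_bsetB hM _).fintype
  obtain ⟨d, hd, -⟩ := exists_decomposition hM hB
  choose m hm hfix hf using fun β : bsetB 2 M (principalBlock M G) => β.2
  haveI : ∀ β, FiniteDimensional (Residue M) (MonoidAlgebra (Residue M) G ⧸ m β) :=
    fun β => finiteDimensional_quot (m β)
  haveI : ∀ β, IsSimpleModule (MonoidAlgebra (Residue M) G) (MonoidAlgebra (Residue M) G ⧸ m β) :=
    fun β => isSimpleModule_iff_isCoatom.2 (hm β)
  let r := fun β => finrank (Residue M)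
    (LinearMap.range (act (Residue M) (MonoidAlgebra (Residue M) G ⧸ m β) (subSum M U)))
  let dim := fun β => finrank (Residue M) (MonoidAlgebra (Residue M) G ⧸ m β)
  have hsum3 : ∑ β, d χ β * r β = 3 := by
    have h : (Nat.card U : ℂ) * ((∑ β, d χ β * r β : ℕ) : ℂ) = (Nat.card U : ℂ) * 3 := by
      rw [mul_comm _ (3 : ℂ), ← hmult, Nat.cast_sum, mul_sum]
      rw [sum_congr rfl fun (u : U) _ => (regPart_of_not_dvd (p := 2)
        (f := (χ : G → ℂ)) (L.not_dvd u.2)).symm, hd χ hχ]
      simp only [Finset.sum_apply, Pi.smul_apply, smul_eq_mul]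
      rw [sum_comm]
      refine sum_congr rfl fun β _ => ?_
      rw [← mul_sum, ← hf β, finrank_subSum hM U L.hU, Nat.cast_mul]
      ring
    exact_mod_cast mul_left_cancel₀ (Nat.cast_ne_zero.2 Nat.card_pos.ne') h
  have hdeg : charDegree (χ : G → ℂ) = ∑ β, d χ β * dim β := by
    have h1 : ¬ 2 ∣ orderOf (1 : G) := by rw [orderOf_one]; norm_num
    have h := congrFun (hd χ hχ) 1
    rw [regPart_of_not_dvd h1, (irr_one χ).1] at h
    have e : (charDegree (χ : G → ℂ) : ℂ) = ((∑ β, d χ β * dim β : ℕ) : ℂ) := by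
      rw [h]
      push_cast
      simp only [Finset.sum_apply, Pi.smul_apply, smul_eq_mul]
      exact sum_congr rfl fun β _ => by rw [← hf β, bchar_one hM]
    exact_mod_cast e
  have key : ∀ β, d χ β ≠ 0 → dim β = r β := by
    intro β hβ
    by_cases hnt : ∃ g : G, ∃ x, rep M (MonoidAlgebra (Residue M) G ⧸ m β) g x ≠ x
    · exfalso
      obtain ⟨c, hc⟩ := exists_int_combination hM hB β.2
      have hcong : ∀ s t : G, ¬ 2 ∣ orderOf s → ¬ 2 ∣ orderOf t →
          (∀ ψ ∈ principalBlock M G, (ψ : G → ℂ) s = (ψ : G → ℂ) t) →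
          bchar 2 M (MonoidAlgebra (Residue M) G ⧸ m β) s =
            bchar 2 M (MonoidAlgebra (Residue M) G ⧸ m β) t := fun s t hs ht h => by
        rw [hf β, hc s hs, hc t ht]
        exact finsum_congr fun ψ => finsum_congr fun hψ => by rw [h ψ hψ]
      have h4 : 4 ≤ r β := four_le_rank hM L _ (hfix β)
        (fun s hs => hcong _ _ (fun hd' => hs (hd'.trans (by
          rw [← pow_two]; exact orderOf_pow_dvd 2))) hs fun ψ hψ => (hall ψ hψ s hs).1)
        (fun s hs => hcong _ _ (by rwa [orderOf_inv]) hs fun ψ hψ => (hall ψ hψ s hs).2) hnt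
      have hle : d χ β * r β ≤ 3 := by
        rw [← hsum3]
        exact single_le_sum (f := fun γ => d χ γ * r γ) (fun _ _ => Nat.zero_le _) (mem_univ β)
      nlinarith [Nat.pos_of_ne_zero hβ]
    · push Not at hnt
      have hid : act (Residue M) (MonoidAlgebra (Residue M) G ⧸ m β) (subSum M U) = 1 := by
        refine LinearMap.ext fun x => ?_
        rw [subSum, map_sum, LinearMap.sum_apply,
          sum_congr rfl fun (u : U) _ => show act (Residue M) _
            (MonoidAlgebra.single (u : G) 1) x = x from hnt u x, sum_const, card_univ,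
          ← Nat.cast_smul_eq_nsmul (Residue M), ← Nat.card_eq_fintype_card, natCast_odd L.hU,
          one_smul, Module.End.one_apply]
      show dim β = finrank (Residue M) (LinearMap.range _)
      rw [hid, Module.End.one_eq_id, LinearMap.range_id, finrank_top]
  rw [hdeg, ← hsum3]
  refine sum_congr rfl fun β _ => ?_
  by_cases hβ : d χ β = 0
  · rw [hβ, zero_mul, zero_mul]
  · rw [key β hβ]

end CfsgLib.KleinEqual
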