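import Cfsg.Agent.Blocks.Decomposition
import Cfsg.Agent.Forms.OfBilin
import Cfsg.Agent.CRWeights.PowTrace
import Cfsg.Agent.Blocks.KleinEqual.Form

/-!
# Modules in characteristic two: central elements, fixed points of odd subgroups, duality
-/

set_option autoImplicit false
set_option linter.style.haveILetI false
set_option linter.unusedSectionVars false

namespace CfsgLib.KleinEqual

open Cfsg Finset CfsgLib.Block CfsgLib.Block.Chr CfsgLib.BrauerPairs CfsgLib.BlockStar
  CfsgLib.Cyclic CfsgLib.BrauerBasis Module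
open scoped Classical

universe u

variable {M : Ideal AlgInt} [M.IsPrime] {G : Type u} [Group G] [Fintype G]

local notation "𝕜" => Residue M
local notation "𝔸" => MonoidAlgebra (Residue M) G

/-- A central element killed by all central characters is nilpotent. -/
theorem isNilpotent_of_lam {p : ℕ} (hM : IsPModular p M) {f : 𝔸} (hf : f ∈ alg 𝕜 ⊤ ⊤)
    (h : ∀ χ, lam χ f = 0) : IsNilpotent f := by
  letI := irrFintype (G := G)
  set a := liftFun f
  have ha := isIntClass_liftFun hf
  let P : ℕ → (G → ℂ) := fun n => Nat.rec a (fun _ b => conv a b) n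
  have hP : ∀ n, IsIntClass M (P n) ∧ redFun M (P n) = f ^ (n + 1) ∧
      ∀ χ : IrrCharacter G, omega (χ : G → ℂ) (P n) = omega (χ : G → ℂ) a ^ (n + 1) := by
    intro n
    induction n with
    | zero => exact ⟨ha, by rw [pow_one]; exact redFun_liftFun f, fun χ => (pow_one _).symm⟩
    | succ n ih =>
      refine ⟨isIntClass_conv ha ih.1, ?_, fun χ => ?_⟩
      · show redFun M (conv a (P n)) = f ^ (n + 1 + 1)
        rw [redFun_conv ha.2 ih.1.2, ih.2.1, redFun_liftFun, pow_succ' _ (n + 1)]
      · show omega (χ : G → ℂ) (conv a (P n)) = _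
        rw [omega_conv χ ha.1, ih.2.2 χ, pow_succ' _ (n + 1)]
  set v := (Nat.card G).factorization p
  choose n hn using fun χ : IrrCharacter G =>
    exists_pow_dvd_of_memLocalIdeal hM ((red_eq_zero_iff (omega_mem χ ha)).mp (h χ)) (v + 1)
  set N := ∑ χ, n χ
  obtain ⟨hN1, hN2, hN3⟩ := hP N
  refine ⟨N + 1, ?_⟩
  rw [← hN2]
  apply coeff_ext
  intro g
  rw [coeff_redFun, eq_sum_omega hN1.1 g, MonoidAlgebra.coeff_zero, Finsupp.zero_apply,
    Finset.mul_sum]
  have hcard : Nat.card G = p ^ v * (Nat.card G / p ^ v) :=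
    (Nat.ordProj_mul_ordCompl_eq_self _ p).symm
  set m := Nat.card G / p ^ v
  have hm : ¬ p ∣ m := Nat.not_dvd_ordCompl hM.1 Nat.card_pos.ne'
  have hp0 : (p : ℂ) ≠ 0 := Nat.cast_ne_zero.mpr hM.1.ne_zero
  have hmem : ∀ χ : IrrCharacter G, MemLocalIdeal M ((Nat.card G : ℂ)⁻¹ *
      ((χ : G → ℂ) 1 * omega (χ : G → ℂ) (P N) * starRingEnd ℂ ((χ : G → ℂ) g))) := by
    intro χ
    have hle : n χ ≤ N + 1 :=
      (Finset.single_le_sum (fun i _ => Nat.zero_le (n i)) (Finset.mem_univ χ)).trans
        (Nat.le_succ _)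
    have hd : MemLocalRing M (omega (χ : G → ℂ) a ^ (N + 1) / (p : ℂ) ^ (v + 1)) := by
      obtain ⟨d, hd⟩ := Nat.exists_eq_add_of_le hle
      rw [hd, pow_add, ← div_mul_eq_mul_div]
      exact memLocalRing_mul (hn χ) (pow_mem (S := localRing M) (omega_mem χ ha) d)
    have hconj : MemLocalRing M (starRingEnd ℂ ((χ : G → ℂ) g)) := by
      rw [conj_irr χ g]; exact irr_mem χ _
    have : (Nat.card G : ℂ)⁻¹ * ((χ : G → ℂ) 1 * omega (χ : G → ℂ) (P N) *
        starRingEnd ℂ ((χ : G → ℂ) g))
        = (p : ℂ) * ((m : ℂ)⁻¹ * ((χ : G → ℂ) 1 *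
          (omega (χ : G → ℂ) a ^ (N + 1) / (p : ℂ) ^ (v + 1)) *
            starRingEnd ℂ ((χ : G → ℂ) g))) := by
      rw [hN3 χ, hcard, Nat.cast_mul, Nat.cast_pow, mul_inv, pow_succ (p : ℂ) v]
      field_simp
    rw [this]
    exact memLocalIdeal_mul_right (memLocalIdeal_p hM) (memLocalRing_mul
      (memLocalRing_natCast_inv hM hm)
      (memLocalRing_mul (memLocalRing_mul (irr_mem χ 1) hd) hconj))
  rw [red_eq_zero_iff (memLocalIdeal_memLocalRing (memLocalIdeal_sum fun χ _ => hmem χ))]
  exact memLocalIdeal_sum fun χ _ => hmem χ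

/-- The sum of the elements of a subgroup. -/
noncomputable def subSum (M : Ideal AlgInt) [M.IsPrime] (U : Subgroup G) : MonoidAlgebra (Residue M) G :=
  ∑ u : U, MonoidAlgebra.single (u : G) 1

section Fixed

variable [CharP (Residue M) 2]

theorem natCast_odd {n : ℕ} (hn : Odd n) : (n : 𝕜) = 1 := by
  obtain ⟨j, rfl⟩ := hn
  push_cast
  rw [CharTwo.two_eq_zero, zero_mul, zero_add]

variable [Fact (Nat.Prime 2)]

omit [CharP (Residue M) 2] [Fact (Nat.Prime 2)] in
theorem single_mul_topSum (g : G) :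
    MonoidAlgebra.single g (1 : 𝕜) * ∑ h : G, MonoidAlgebra.single h 1 =
      ∑ h : G, MonoidAlgebra.single h 1 := by
  rw [mul_sum]
  exact Fintype.sum_equiv (Equiv.mulLeft g) _ _ fun h => by
    rw [MonoidAlgebra.single_mul_single, one_mul]; rfl

/-- In a group of odd order the averaging element has the multiplicity of the trivial character as
rank. -/
theorem finrank_topSum (hM : IsPModular 2 M) (hG : Odd (Nat.card G)) :
    ∀ (d : ℕ) (X : Type u) [AddCommGroup X] [Module 𝕜 X] [Module 𝔸 X] [IsScalarTower 𝕜 𝔸 X]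
      [FiniteDimensional 𝕜 X], finrank 𝕜 X = d →
      ∑ g : G, bchar (G := G) 2 M X g = (Nat.card G : ℂ) *
        (finrank 𝕜 (LinearMap.range (act 𝕜 X (∑ h : G, MonoidAlgebra.single h (1 : 𝕜)))) : ℂ) := by
  letI := irrFintype (G := G)
  have hG2 : ¬ 2 ∣ Nat.card G := hG.not_two_dvd_nat
  have hred : red M ((Nat.card G : ℂ)⁻¹) = (1 : 𝕜) := by
    have h1 := memLocalRing_natCast_inv hM hG2
    have h2 : MemLocalRing M (Nat.card G : ℂ) := natCast_mem (localRing M) _
    have h3 := red_mul h2 h1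
    rw [mul_inv_cancel₀ (Nat.cast_ne_zero.2 Nat.card_pos.ne'), red_one, red_eq h2] at h3
    rw [show (⟨(Nat.card G : ℂ), h2⟩ : localRing M) = (Nat.card G : localRing M) from
      Subtype.ext (by simp), map_natCast, natCast_odd hG, one_mul] at h3
    exact h3.symm
  let nl : LA M G := ∑ h : G, MonoidAlgebra.single h
    (⟨(Nat.card G : ℂ)⁻¹, memLocalRing_natCast_inv hM hG2⟩ : localRing M)
  set N : 𝔸 := ∑ h : G, MonoidAlgebra.single h (1 : 𝕜) with hN
  have hnl : redA nl = N := by
    refine coeff_ext fun g => ?_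
    simp only [nl, N, coeff_redA, MonoidAlgebra.coeff_sum, Finsupp.finsetSum_apply,
      MonoidAlgebra.coeff_single, Finsupp.single_apply, map_sum, apply_ite (res M), map_zero]
    rw [sum_ite_eq' univ g, sum_ite_eq' univ g, if_pos (mem_univ g), if_pos (mem_univ g),
      ← red_eq, hred]
  have hnlid : nl * nl = nl := by
    refine MonoidAlgebra.coeff_injective (Finsupp.ext fun g => Subtype.ext ?_)
    rw [coeff_mul']
    simp only [nl, MonoidAlgebra.coeff_sum, Finsupp.finsetSum_apply, MonoidAlgebra.coeff_single,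
      Finsupp.single_apply, sum_ite_eq', mem_univ, if_true]
    push_cast
    rw [sum_const, card_univ, nsmul_eq_mul, ← Nat.card_eq_fintype_card, ← mul_assoc,
      mul_inv_cancel₀ (Nat.cast_ne_zero.2 Nat.card_pos.ne'), one_mul]
  have hNN : N * N = N := by rw [← hnl, ← map_mul, hnlid]
  have hcv : ∀ χ : IrrCharacter G, cval (χ : G → ℂ) nl = if χ = oneIrr G then 1 else 0 := by
    intro χ
    simp only [cval, nl, MonoidAlgebra.coeff_sum, Finsupp.finsetSum_apply,
      MonoidAlgebra.coeff_single, Finsupp.single_apply, sum_ite_eq', mem_univ, if_true]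
    rw [← mul_sum]
    have h := classInner_irr χ (oneIrr G)
    simp only [classInner, oneIrr_coe, map_one, mul_one] at h
    exact h
  intro d
  induction d using Nat.strong_induction_on with
  | _ d ih =>
    intro X _ _ _ _ _ hd
    rcases subsingleton_or_nontrivial X with hs | hn
    · rw [Module.finrank_zero_of_subsingleton, Nat.cast_zero, mul_zero]
      refine sum_eq_zero fun g _ => ?_
      rw [bchar]
      split_ifs
      · rfl
      · rw [bval, sum_eq_zero fun j _ => ?_]
        · rfl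
        · rw [Module.finrank_zero_of_subsingleton, Nat.cast_zero, mul_zero]
    obtain ⟨U, hU⟩ := exists_simple_submodule (k := 𝕜) (G := G) (S := X)
    haveI := hU
    haveI : FiniteDimensional 𝕜 U := inferInstanceAs (FiniteDimensional 𝕜 (U.restrictScalars 𝕜))
    haveI : FiniteDimensional 𝕜 (X ⧸ U) :=
      Module.Finite.of_surjective (U.mkQ.restrictScalars 𝕜) U.mkQ_surjective
    haveI := IsSimpleModule.nontrivial 𝔸 U
    have hpos : 0 < finrank 𝕜 U := Module.finrank_pos
    have hadd := finrank_eq_add (k := 𝕜) U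
    rw [← bchar_add hM U, ← finrank_act_add (k := 𝕜) U hNN]
    simp only [Pi.add_apply, sum_add_distrib, Nat.cast_add, mul_add]
    rw [ih _ (by omega) (X ⧸ U) rfl]
    congr 1
    -- the simple submodule is a left ideal
    obtain ⟨m, hm, ⟨T⟩⟩ := isSimpleModule_iff_quot_maximal.1 hU
    haveI : NeZero (Nat.card G : 𝕜) := ⟨fun h => one_ne_zero ((natCast_odd hG).symm.trans h)⟩
    obtain ⟨W, hW⟩ := exists_isCompl m
    obtain ⟨c, hc, hWc⟩ : ∃ c : 𝔸, c * c = c ∧ W = leftIdeal c := by
      let π := Submodule.projectionOnto W m hW.symm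
      refine ⟨(π 1 : W), ?_, le_antisymm (fun y hy => ?_) ?_⟩
      · have h : π ((π 1 : W) : 𝔸) = π 1 := Submodule.projectionOnto_apply_left hW.symm (π 1)
        calc ((π 1 : W) : 𝔸) * (π 1 : W) = (((π 1 : W) : 𝔸) • π 1 : W) := rfl
          _ = π (((π 1 : W) : 𝔸) • (1 : 𝔸)) := by rw [π.map_smul]
          _ = (π 1 : W) := by rw [smul_eq_mul, mul_one, h]
      · refine Submodule.mem_span_singleton.2 ⟨y, ?_⟩
        have h : π y = ⟨y, hy⟩ := Submodule.projectionOnto_apply_left hW.symm ⟨y, hy⟩
        calc y • ((π 1 : W) : 𝔸) = ((y • π 1 : W) : 𝔸) := rfl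
          _ = (π (y • (1 : 𝔸)) : W) := by rw [π.map_smul]
          _ = y := by rw [smul_eq_mul, mul_one, h]
      · exact (Submodule.span_singleton_le_iff_mem _ _).2 (π 1).2
    subst hWc
    obtain ⟨b, hb, hbred⟩ : ∃ b : LA M G, b * b = b ∧ redA b = c := by
      obtain ⟨b, h1, h2, -⟩ := exists_lift (M := M) (⊥ : Subgroup G) hc
        (CfsgLib.LocalSymm.fixBy_bot c)
      exact ⟨b, h1, h2⟩
    subst hbred
    set T' := T.trans (Submodule.quotientEquivOfIsCompl m (leftIdeal (redA b)) hW)
    haveI : FiniteDimensional 𝕜 (leftIdeal (redA b)) :=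
      Module.Finite.of_surjective (T'.toLinearMap.restrictScalars 𝕜) T'.surjective
    rw [bchar_congr T', show finrank 𝕜 (LinearMap.range (act 𝕜 U N)) =
        finrank 𝕜 (LinearMap.range (act 𝕜 (leftIdeal (redA b)) N)) from
      finrank_act_map (T'.restrictScalars 𝕜) N N fun x => T'.map_smul N x, ← hnl,
      finrank_pair hnlid hb]
    simp only [hcv, ite_mul, one_mul, zero_mul, sum_ite_eq', mem_univ, if_true]
    rw [sum_congr rfl fun g _ => bchar_leftIdeal_eq_sum hM hb fun h => hG2
      (h.trans (orderOf_dvd_natCard g)), sum_comm]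
    rw [sum_eq_single (oneIrr G)]
    · simp [oneIrr_coe, Nat.card_eq_fintype_card]
    · intro χ _ hne
      rw [← sum_mul]
      have h := classInner_irr χ (oneIrr G)
      rw [if_neg hne] at h
      simp only [classInner, oneIrr_coe, map_one, mul_one] at h
      rw [(mul_eq_zero.1 h).resolve_left (inv_ne_zero (Nat.cast_ne_zero.2 Nat.card_pos.ne')),
        zero_mul]
    · simp

/-- The rank of the averaging element of an odd subgroup. -/
theorem finrank_subSum (hM : IsPModular 2 M) (U : Subgroup G) (hU : Odd (Nat.card U)) (X : Type u)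
    [AddCommGroup X] [Module 𝕜 X] [Module 𝔸 X] [IsScalarTower 𝕜 𝔸 X] [FiniteDimensional 𝕜 X] :
    ∑ u : U, bchar (G := G) 2 M X (u : G) =
      (Nat.card U : ℂ) * (finrank 𝕜 (LinearMap.range (act 𝕜 X (subSum M U))) : ℂ) := by
  haveI : FiniteDimensional 𝕜 (ResMod M U.subtype X) := inferInstance
  have h := finrank_topSum (M := M) hM hU _ (ResMod M U.subtype X) rfl
  rw [sum_congr rfl fun u _ => bchar_res U.subtype U.subtype_injective X u] at h
  refine h.trans (congrArg _ (congrArg _ ?_))
  let T : ResMod M U.subtype X ≃ₗ[𝕜] X := LinearEquiv.refl 𝕜 X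
  refine finrank_act_map T _ _ fun x => ?_
  show MonoidAlgebra.mapDomainAlgHom 𝕜 𝕜 U.subtype (∑ u : U, MonoidAlgebra.single u 1) •
    (show X from x) = subSum M U • (show X from x)
  rw [map_sum, subSum]
  exact congrArg (· • (show X from x)) (sum_congr rfl fun u _ => by simp)

end Fixed

section Duality

/-- The representation on a module. -/
noncomputable def rep (M : Ideal AlgInt) [M.IsPrime] {G : Type u} [Group G] (S : Type u)
    [AddCommGroup S] [Module (Residue M) S] [Module (MonoidAlgebra (Residue M) G) S]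
    [IsScalarTower (Residue M) (MonoidAlgebra (Residue M) G) S] : G →* Module.End (Residue M) S :=
  (act (Residue M) S).toMonoidHom.comp (MonoidAlgebra.of (Residue M) G)

/-- The contragredient action. -/
noncomputable def dualAlg (M : Ideal AlgInt) [M.IsPrime] (G : Type u) [Group G] (S : Type u)
    [AddCommGroup S] [Module (Residue M) S] [Module (MonoidAlgebra (Residue M) G) S]
    [IsScalarTower (Residue M) (MonoidAlgebra (Residue M) G) S] :
    MonoidAlgebra (Residue M) G →ₐ[Residue M] Module.End (Residue M) (Module.Dual (Residue M) S) :=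
  MonoidAlgebra.lift (Residue M) _ G
    { toFun := fun g => (rep M S g⁻¹).dualMap
      map_one' := by rw [inv_one, map_one]; exact LinearMap.dualMap_id
      map_mul' := fun g h => by
        rw [mul_inv_rev, map_mul]
        exact (LinearMap.dualMap_comp_dualMap (rep M S g⁻¹) (rep M S h⁻¹)).symm }

variable {S : Type u} [AddCommGroup S] [Module (Residue M) S]
  [Module (MonoidAlgebra (Residue M) G) S] [IsScalarTower (Residue M) (MonoidAlgebra (Residue M) G) S]

theorem rep_apply (g : G) (x : S) :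
    rep M S g x = MonoidAlgebra.single g (1 : 𝕜) • x := rfl

theorem act_eq_sum (a : 𝔸) : act 𝕜 S a = ∑ g : G, a.coeff g • rep M S g := by
  conv_lhs => rw [sum_single_smul a]
  rw [map_sum]
  exact sum_congr rfl fun g _ => map_smul _ _ _

variable [FiniteDimensional (Residue M) S] [IsSimpleModule (MonoidAlgebra (Residue M) G) S]

theorem span_rep (f : Module.End 𝕜 S) : ∃ c : G → 𝕜, f = ∑ g : G, c g • rep M S g := by
  obtain ⟨a, ha⟩ := exists_smul_eq (S := S) (k := 𝕜) (G := G) f
  exact ⟨fun g => a.coeff g, by rw [← act_eq_sum]; exact LinearMap.ext fun x => (ha x).symm⟩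

theorem schur_rep (f : Module.End 𝕜 S) (hf : ∀ g : G, f * rep M S g = rep M S g * f) :
    ∃ c : 𝕜, f = c • 1 := by
  obtain ⟨c, hc⟩ := exists_scalar (k := 𝕜) (G := G) (h := f) fun a x => by
    show f (act 𝕜 S a x) = act 𝕜 S a (f x)
    rw [act_eq_sum, LinearMap.sum_apply, map_sum, LinearMap.sum_apply]
    refine sum_congr rfl fun g _ => ?_
    rw [LinearMap.smul_apply, LinearMap.smul_apply, map_smul]
    exact congrArg _ (LinearMap.congr_fun (hf g) x)
  exact ⟨c, LinearMap.ext fun x => hc x⟩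

theorem fix_rep (hnt : ∃ g : G, ∃ x : S, rep M S g x ≠ x) {x : S}
    (hx : ∀ g : G, rep M S g x = x) : x = 0 := by
  by_contra h0
  obtain ⟨g, y, hy⟩ := hnt
  obtain ⟨ψ, hψ⟩ : ∃ ψ : Module.Dual 𝕜 S, ψ x ≠ 0 := by
    by_contra hh
    push Not at hh
    exact h0 ((Module.forall_dual_apply_eq_zero_iff 𝕜 x).1 hh)
  obtain ⟨c, hc⟩ := span_rep (M := M) (G := G) (S := S) (ψ.smulRight y)
  have h1 := LinearMap.congr_fun hc x
  simp only [LinearMap.smulRight_apply, LinearMap.sum_apply, LinearMap.smul_apply, hx,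
    ← sum_smul] at h1
  refine hy ?_
  have h2 : y = ((ψ x)⁻¹ * ∑ g : G, c g) • x := by
    rw [mul_smul, ← h1, smul_smul, inv_mul_cancel₀ hψ, one_smul]
  rw [h2, map_smul, hx]

/-- A simple module whose traces are invariant under inversion carries an invariant alternating
form, unless it is trivial. -/
theorem exists_form [CharP (Residue M) 2]
    (htr : ∀ g : G, LinearMap.trace 𝕜 S (rep M S g⁻¹) = LinearMap.trace 𝕜 S (rep M S g))
    (hnt : ∃ g : G, ∃ x : S, rep M S g x ≠ x) :
    ∃ β : S →ₗ[𝕜] S →ₗ[𝕜] 𝕜, (∀ x, β x x = 0) ∧ (∀ x, (∀ y, β x y = 0) → x = 0) ∧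
      ∀ (g : G) (x y : S), β (rep M S g x) (rep M S g y) = β x y := by
  haveI := IsSimpleModule.nontrivial 𝔸 S
  let D := Module.Dual 𝕜 S
  letI : Module 𝔸 D := Module.compHom D (dualAlg M G S).toRingHom
  have hsd : ∀ (a : 𝔸) (ψ : D), a • ψ = dualAlg M G S a ψ := fun a ψ => rfl
  haveI : IsScalarTower 𝕜 𝔸 D := ⟨fun c a ψ => by
    rw [hsd, hsd, map_smul]; rfl⟩
  have hdg : ∀ (g : G) (ψ : D), MonoidAlgebra.single g (1 : 𝕜) • ψ = ψ ∘ₗ rep M S g⁻¹ := by
    intro g ψ
    rw [hsd, dualAlg, MonoidAlgebra.lift_single, one_smul]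
    rfl
  have hdrep : ∀ g : G, rep M D g = (rep M S g⁻¹).dualMap := fun g =>
    LinearMap.ext fun ψ => hdg g ψ
  haveI : IsSimpleModule 𝔸 D := by
    haveI : Nontrivial D := by
      obtain ⟨x, hx⟩ := exists_ne (0 : S)
      obtain ⟨ψ, hψ⟩ : ∃ ψ : D, ψ x ≠ 0 := by
        by_contra hh
        push Not at hh
        exact hx ((Module.forall_dual_apply_eq_zero_iff 𝕜 x).1 hh)
      exact ⟨ψ, 0, fun h => hψ (by rw [h]; rfl)⟩
    refine isSimpleModule_iff_toSpanSingleton_surjective.2 ⟨inferInstance, fun ψ hψ θ => ?_⟩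
    obtain ⟨v, hv⟩ : ∃ v, ψ v ≠ 0 := by
      by_contra hh
      push Not at hh
      exact hψ (LinearMap.ext hh)
    obtain ⟨c, hc⟩ := span_rep (M := M) (G := G) (θ.smulRight ((ψ v)⁻¹ • v))
    refine ⟨∑ g : G, c g • MonoidAlgebra.single g⁻¹ (1 : 𝕜), ?_⟩
    rw [LinearMap.toSpanSingleton_apply, sum_smul]
    refine LinearMap.ext fun y => ?_
    have h1 := congrArg ψ (LinearMap.congr_fun hc y)
    simp only [LinearMap.smulRight_apply, map_smul, smul_eq_mul, inv_mul_cancel₀ hv, mul_one,
      LinearMap.sum_apply, LinearMap.smul_apply, map_sum] at h1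
    rw [LinearMap.sum_apply, h1]
    refine sum_congr rfl fun g _ => ?_
    rw [smul_assoc, hdg, inv_inv]
    rfl
  obtain ⟨T⟩ := exists_iso_of_annihilator_le (k := 𝕜) (G := G) (S := S) (S' := D) (fun a ha => by
    have hS : act 𝕜 S a = 0 := LinearMap.ext ha
    have hD : act 𝕜 D a = 0 := by
      refine eq_zero_of_trace _ fun f => ?_
      obtain ⟨b, hb⟩ := exists_smul_eq (S := D) (k := 𝕜) (G := G) f
      rw [show f = act 𝕜 D b from LinearMap.ext fun x => (hb x).symm, ← map_mul, act_eq_sum,
        map_sum]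
      have h0 : LinearMap.trace 𝕜 S (act 𝕜 S (a * b)) = 0 := by rw [map_mul, hS, zero_mul, map_zero]
      rw [act_eq_sum, map_sum] at h0
      rw [← h0]
      refine sum_congr rfl fun g _ => ?_
      rw [map_smul, map_smul, hdrep, ← htr g]; exact congrArg _ (LinearMap.trace_transpose' _)
    exact fun y => LinearMap.congr_fun hD y)
  let β : S →ₗ[𝕜] S →ₗ[𝕜] 𝕜 := T.toLinearMap.restrictScalars 𝕜
  have hinv : ∀ (g : G) (x y : S), β (rep M S g x) (rep M S g y) = β x y := by
    intro g x y
    show T (MonoidAlgebra.single g (1 : 𝕜) • x) (rep M S g y) = T x y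
    rw [T.map_smul, hdg, LinearMap.comp_apply, ← Module.End.mul_apply (rep M S g⁻¹), ← map_mul,
      inv_mul_cancel, map_one, Module.End.one_apply]
  have hnd : ∀ x, (∀ y, β x y = 0) → x = 0 := fun x hx => T.injective (by
    rw [map_zero]; exact LinearMap.ext hx)
  have hadj : ∀ (g : G) (x y : S), β (rep M S g x) y = β x (rep M S g⁻¹ y) := fun g x y => by
    conv_lhs => rw [show y = rep M S g (rep M S g⁻¹ y) by
      rw [← Module.End.mul_apply, ← map_mul, mul_inv_cancel, map_one, Module.End.one_apply]]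
    rw [hinv]
  -- symmetry
  obtain ⟨h, hh⟩ : ∃ h : Module.End 𝕜 S, ∀ x y, β (h x) y = β y x :=
    ⟨(T.symm.toLinearMap.restrictScalars 𝕜) ∘ₗ β.flip, fun x y => by
      show T (T.symm (β.flip x)) y = β y x
      rw [T.apply_symm_apply, LinearMap.flip_apply]⟩
  obtain ⟨c, hc⟩ := schur_rep (M := M) (G := G) h fun g => LinearMap.ext fun x => T.injective (by
    refine LinearMap.ext fun y => ?_
    show β (h (rep (G := G) M S g x)) y = β (rep M S g (h x)) y
    rw [hh, hadj, hh, hadj, inv_inv])
  have hflip : ∀ x y, β y x = c * β x y := fun x y => by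
    rw [← hh, hc, LinearMap.smul_apply, Module.End.one_apply, map_smul, LinearMap.smul_apply,
      smul_eq_mul]
  have hc1 : c = 1 := by
    obtain ⟨x, hx⟩ := exists_ne (0 : S)
    obtain ⟨y, hy⟩ : ∃ y, β x y ≠ 0 := by
      by_contra hh'
      push Not at hh'
      exact hx (hnd x hh')
    have h2 : c * c = 1 := by
      have h := hflip y x
      rw [hflip x y, ← mul_assoc] at h
      exact mul_right_cancel₀ hy (by rw [one_mul]; exact h.symm)
    have : (c + 1) * (c + 1) = 0 := by
      linear_combination h2 + (c + 1) * CharTwo.two_eq_zero (R := 𝕜)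
    exact CharTwo.add_eq_zero.1 (mul_self_eq_zero.1 this)
  have hsymm : ∀ x y, β x y = β y x := fun x y => by rw [hflip x y, hc1, one_mul]
  -- alternating
  let K₀ : Submodule 𝕜 S :=
    { carrier := {x | β x x = 0}
      zero_mem' := by simp
      add_mem' := fun {x y} (hx : β x x = 0) (hy : β y y = 0) => by
        show β (x + y) (x + y) = 0
        simp only [map_add, LinearMap.add_apply, hx, hy, hsymm y x]
        linear_combination CharTwo.add_self_eq_zero (β x y)
      smul_mem' := fun r x (hx : β x x = 0) => by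
        show β (r • x) (r • x) = 0
        simp [hx] }
  let K : Submodule 𝔸 S :=
    { toAddSubmonoid := K₀.toAddSubmonoid
      smul_mem' := fun a x hx => by
        show act 𝕜 S a x ∈ K₀
        rw [act_eq_sum, LinearMap.sum_apply]
        refine Submodule.sum_mem _ fun g _ => ?_
        rw [LinearMap.smul_apply]
        refine Submodule.smul_mem _ _ ?_
        show β (rep M S g x) (rep M S g x) = 0
        rw [hinv]; exact hx }
  refine ⟨β, fun x => ?_, hnd, hinv⟩
  rcases eq_bot_or_eq_top K with hK | hK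
  · exfalso
    obtain ⟨g, z, hz⟩ := hnt
    have hK0 : ∀ w : S, β w w = 0 → w = 0 := fun w hw => by
      have : w ∈ K := hw
      rwa [hK, Submodule.mem_bot] at this
    refine hz ?_
    have h0 := hK0 (rep M S g z + z) (by
      simp only [map_add, LinearMap.add_apply, hinv, hsymm z (rep M S g z)]
      linear_combination (β z z + β (rep M S g z) z) * CharTwo.two_eq_zero (R := 𝕜))
    rw [← sub_eq_zero, ← h0, sub_eq_add_neg]
    congr 1
    rw [← neg_one_smul 𝕜 z, CharTwo.neg_eq (1 : 𝕜), one_smul]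
  · have : x ∈ K := by rw [hK]; trivial
    exact this

end Duality

end CfsgLib.KleinEqual
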